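import Cfsg.Prelude.Def_ChevAutomorphisms
import Cfsg.Prelude.Def_LieTypes
import Cfsg.Prelude.Def_ChevB2
import Cfsg.Agent.ChevalleyStructure.Elts
import Cfsg.Agent.ChevalleyStructure.RootComb
set_option linter.all false

-- part: H70/RootCoeffTab
section
/-!
# The coefficients of the roots on the fundamental roots

`RootCoeff D m`: `m r i` is the coefficient of the root with index `r` on the fundamental root `p_i`, in the form needed
for characters of the root lattice: `m` is additive along the chains of the datum. `exists_rootCoeff`: such an `m` exists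
for the seven tabulated data (packed tables, checked by the kernel).
-/

set_option autoImplicit false
set_option maxRecDepth 100000

namespace Cfsg.Agent.H70.RootCoeffTab

open Cfsg.Lie

/-- `m r i` is the coefficient of the root `r` on the fundamental root `p_i`. -/
structure RootCoeff (D : ChevalleyDatum) (m : ℕ → ℕ → ℤ) : Prop where
  simple : ∀ j < D.rank, ∀ i < D.rank, m (D.simple j) i = if j = i then 1 else 0
  neg : ∀ r < D.nroots, ∀ i < D.rank, m (D.neg r) i = - m r i
  chain : ∀ r, ∀ e ∈ (D.chain.getD r #[]).toList, ∀ (k : ℕ) (q : ℕ × ℤ), e.2.toList[k]? = some q →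
    ∀ i < D.rank, m q.1 i = m e.1 i + ((k : ℤ) + 1) * m r i

/-- the `i`-th digit of the `r`-th entry of the packed table -/
def dig (M l r i : ℕ) : ℕ := (M >>> (5 * (l * r + i))) % 32

/-- one chain -/
def chkEntry (M l r s : ℕ) : ℕ → List (ℕ × ℤ) → Bool
  | _, [] => true
  | k, q :: L => ((List.range l).all fun i => Nat.beq (dig M l q.1 i + k * 8) (dig M l s i + k * dig M l r i)) &&
      chkEntry M l r s (k + 1) L

/-- all chains -/
def chkRows (M l : ℕ) : ℕ → List (Array (ℕ × Array (ℕ × ℤ))) → Bool
  | _, [] => true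
  | r, row :: L => (row.toList.all fun e => chkEntry M l r e.1 1 e.2.toList) && chkRows M l (r + 1) L

/-- the fundamental roots -/
def chkSimple (M l : ℕ) (D : ChevalleyDatum) : Bool :=
  (List.range l).all fun j => (List.range l).all fun i =>
    Nat.beq (dig M l (D.simple j) i) (if Nat.beq j i then 9 else 8)

/-- the negatives -/
def chkNeg (M l : ℕ) (D : ChevalleyDatum) : Bool :=
  (List.range D.nroots).all fun r => (List.range l).all fun i =>
    Nat.beq (dig M l (D.neg r) i + dig M l r i) 16

theorem chkEntry_spec {M l r s : ℕ} : ∀ {k₀ : ℕ} {L : List (ℕ × ℤ)}, chkEntry M l r s k₀ L = true →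
    ∀ (k : ℕ) (q : ℕ × ℤ), L[k]? = some q → ∀ i < l, dig M l q.1 i + (k₀ + k) * 8 = dig M l s i + (k₀ + k) * dig M l r i
  | k₀, [], _, k, q, h, i, hi => by simp at h
  | k₀, q₀ :: L, h, k, q, hq, i, hi => by
    rw [chkEntry, Bool.and_eq_true] at h
    cases k with
    | zero =>
      rw [List.getElem?_cons_zero, Option.some.injEq] at hq
      subst hq
      have := List.all_eq_true.1 h.1 i (List.mem_range.2 hi)
      exact Nat.eq_of_beq_eq_true this
    | succ k =>
      rw [List.getElem?_cons_succ] at hq
      have := chkEntry_spec h.2 k q hq i hi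
      rw [show k₀ + (k + 1) = k₀ + 1 + k by omega]
      exact this

theorem chkRows_spec {M l : ℕ} : ∀ {r₀ : ℕ} {L : List (Array (ℕ × Array (ℕ × ℤ)))}, chkRows M l r₀ L = true →
    ∀ (r : ℕ) (row : Array (ℕ × Array (ℕ × ℤ))), L[r]? = some row → ∀ e ∈ row.toList,
      chkEntry M l (r₀ + r) e.1 1 e.2.toList = true
  | r₀, [], _, r, row, h, e, he => by simp at h
  | r₀, row₀ :: L, h, r, row, hr, e, he => by
    rw [chkRows, Bool.and_eq_true] at h
    cases r with
    | zero =>
      rw [List.getElem?_cons_zero, Option.some.injEq] at hr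
      subst hr
      exact List.all_eq_true.1 h.1 e he
    | succ r =>
      rw [List.getElem?_cons_succ] at hr
      have := chkRows_spec h.2 r row hr e he
      rw [show r₀ + (r + 1) = r₀ + 1 + r by omega]
      exact this

theorem rootCoeff_of_chk {D : ChevalleyDatum} {M : ℕ} (h1 : chkRows M D.rank 0 D.chain.toList = true)
    (h2 : chkSimple M D.rank D = true) (h3 : chkNeg M D.rank D = true) :
    RootCoeff D (fun r i => (dig M D.rank r i : ℤ) - 8) where
  simple := by
    intro j hj i hi
    have h := List.all_eq_true.1 (List.all_eq_true.1 h2 j (List.mem_range.2 hj)) i (List.mem_range.2 hi)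
    have h := Nat.eq_of_beq_eq_true h
    show (dig M D.rank (D.simple j) i : ℤ) - 8 = _
    rw [h]
    by_cases hij : j = i
    · subst hij
      rw [Nat.beq_refl]
      simp
    · have : Nat.beq j i = false := by
        cases hb : Nat.beq j i with
        | false => rfl
        | true => exact absurd (Nat.eq_of_beq_eq_true hb) hij
      rw [this]
      simp [hij]
  neg := by
    intro r hr i hi
    have h := List.all_eq_true.1 (List.all_eq_true.1 h3 r (List.mem_range.2 hr)) i (List.mem_range.2 hi)
    have h := Nat.eq_of_beq_eq_true h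
    show (dig M D.rank (D.neg r) i : ℤ) - 8 = -((dig M D.rank r i : ℤ) - 8)
    omega
  chain := by
    intro r e he k q hq i hi
    have hrow : D.chain.toList[r]? = some (D.chain.getD r #[]) := by
      rw [Array.getElem?_toList]
      rw [Array.getD_eq_getD_getElem?] at he ⊢
      cases h : D.chain[r]? with
      | none =>
        rw [h] at he
        simp at he
      | some row => simp
    have h4 := chkRows_spec h1 r _ hrow e he
    have h5 := chkEntry_spec h4 k q hq i hi
    rw [zero_add] at h5
    show (dig M D.rank q.1 i : ℤ) - 8 = ((dig M D.rank e.1 i : ℤ) - 8) + ((k : ℤ) + 1) * ((dig M D.rank r i : ℤ) - 8)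
    have h6 : (dig M D.rank q.1 i : ℤ) + (1 + k) * 8 = dig M D.rank e.1 i + (1 + k) * dig M D.rank r i := by
      exact_mod_cast h5
    linear_combination h6

/-- packed table of the root coefficients, type G2 -/
def MG2 : ℕ := 0x52d2b4a929425283a10739ce6394c5

theorem rootCoeffG2 : ∃ m, RootCoeff chevG2 m :=
  ⟨_, rootCoeff_of_chk (M := MG2) (by decide +kernel) (by decide +kernel) (by decide +kernel)⟩

/-- packed table of the root coefficients, type B2 -/
def MB2 : ℕ := 0x4a929425283a10739ce6

theorem rootCoeffB2 : ∃ m, RootCoeff chevB2 m :=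
  ⟨_, rootCoeff_of_chk (M := MB2) (by decide +kernel) (by decide +kernel) (by decide +kernel)⟩

/-- packed table of the root coefficients, type D4 -/
def MD4 : ℕ := 0x4a5494a529425294a12942129421094a528425284a12842128425084a1083a10841d08420e83a0e841ce839ce842107420e73a0e741ce739ce739cc7

theorem rootCoeffD4 : ∃ m, RootCoeff chevD4 m :=
  ⟨_, rootCoeff_of_chk (M := MD4) (by decide +kernel) (by decide +kernel) (by decide +kernel)⟩

/-- packed table of the root coefficients, type F4 -/
def MF4 : ℕ := 0x52d8a4ad8a4a98a4a96a4a94a4a54a4254a4a9694a9494a549425494a5294252942129421094a9484a548425484a52842528421284a508425084a1083a10841d0839d08420e841ce839ce841cc839cc8398c842107420e741ce739ce741cc739cc7398c7398a741cc639cc6398c6398a6398863948631486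

theorem rootCoeffF4 : ∃ m, RootCoeff chevF4 m :=
  ⟨_, rootCoeff_of_chk (M := MF4) (by decide +kernel) (by decide +kernel) (by decide +kernel)⟩

/-- packed table of the root coefficients, type E6 -/
def ME6 : ℕ := 0x4a96a5252a5a9294a94a4a529529294254a4a52a525294a5494a509525294a5294a5094a529421294a5294a50942529425084a5094210942508421094a9494a12952528425494a1294a528425294a1084a5284a5284a1094a128421284a108421284a529421094a5084212942108425084a528421094a1084212842129421084250842128421083a108421074210839d08421083a10841ce8420e73a108421074210839d0841ce7420e739d08421083a1083a0e841ce83a0e73a0e8420e73a10739ce839ce73a10731ce839cc73a0e631ce84210841d0841d07420e741d0739d0739ce741d0839ce741ce739ce739ce741cc739ce731ce7398c739d07318e739cc639ce6318e7398a639ce6298c7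

theorem rootCoeffE6 : ∃ m, RootCoeff chevE6 m :=
  ⟨_, rootCoeff_of_chk (M := ME6) (by decide +kernel) (by decide +kernel) (by decide +kernel)⟩

/-- packed table of the root coefficients, type E7 -/
def ME7 : ℕ := 0x12a5b16a5254b62d494a96c5292952d6a5252a52d4a4a52a5a9494254b5292952d6a4a52a52d494a52a5a9294254b525295294a4a529529494a12a529294a52a525284a54a4a5084a9494a54a525294a54a4a5284a9494a5294a9294a129525294212a4a5294a5294a5094a5294a1094a529421094a5294a529425094a5284a1094a509421094a1284210942508421084a54a525284a54a4a5084a9494a1294a92942129525284212a4a5094a5294a1094a529421094a528421094a5094a5284a1094a509421094a1284210942508421084a1294a528421294a508421294a108421294210842128425294a10842529421084252842108425084252942108425284210842508421294210842128421084a1084210742108421074210841ce842108420e84210839d08420e73a108421083a108420e74210839ce8420e739d084210841d08421073a10841ce74210739ce841ce739d084210841d08420e83a10839d07420e73a0e839ce741d08420e73a10839ce7420e739ce839ce739d0841cc73a107398e741ce731ce841cc639d07398c73a0e6318e74210842107421083a0e8420e741d0839ce83a0e739d0739ce73a0e8420e739d0839ce73a0e739ce739ce739ce841cc739d07398e739ce731ce741cc639ce7398c739ce6318e73a107318e741ce631ce739cc639d07318c739ce6318e7398c631ce8398a639ce7314c739cc6298e7398a531ce8398a631ce7314c639cc6298c7398a5318e73148631ce6290a639cc5214c6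

theorem rootCoeffE7 : ∃ m, RootCoeff chevE7 m :=
  ⟨_, rootCoeff_of_chk (M := ME7) (by decide +kernel) (by decide +kernel) (by decide +kernel)⟩

/-- packed table of the root coefficients, type E8 -/
def ME8 : ℕ := 0x52d8d7316a4ad8d7316a4a98d7316a4a96d7316a4a96c7316a4a96c6b16a4a96c6ad6a4a96c6b14a4a96c6ad4a4a96c62d4a4a96b62d4a4a94b62d4a4a54b62d4a4254b62d4a4a96c6ad694a96c6ad494a96c62d494a96b62d494a94b62d494a54b62d494254b62d494a96c629494a96b629494a94b629494a54b629494254b629494a96b5a9494a94b5a9494a54b5a9494254b5a9494a94a5a9494a54a5a9494254a5a9494a52a5a9494252a5a9494212a5a9494a96b5a9294a94b5a9294a54b5a9294254b5a9294a94a5a9294a54a5a9294254a5a9294a52a5a9294252a5a9294212a5a9294a94a529294a54a529294254a529294a52a529294252a529294212a529294a529529294252952929421295292942109529294a94a525294a54a525294254a525294a52a525294252a525294212a525294a529525294252952529421295252942109525294a5294a529425294a529421294a529421094a529421084a5294a5294a509425294a509421294a509421094a509421084a509421084250942108421094a94a525284a54a525284254a525284a52a5252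84252a525284212a525284a529525284252952528421295252842109525284a5294a528425294a528421294a528421094a528421084a5284a5294a128425294a128421294a128421094a128421084a12842108421284a5294a508425294a508421294a508421094a508421084a50842108425084a5294a108425294a108421294a108421094a108421084a1084a529421084252942108421294210842109421084a52842108425284210842128421084a5084210842508421084a108421083a1084210841d084210839d0842108420e84210841ce84210839ce8421084210742108420e74210841ce74210839ce742108421083a108421073a108420e73a10841ce73a10839ce73a1084210841d084210839d084210739d08420e739d0841ce739d0839ce739d0842108420e8421083a0e8421073a0e8420e73a0e841ce73a0e839ce73a0e84210839ce84210739ce8420e739ce841ce739ce839ce739ce84210731ce8420e731ce841ce731ce839ce731ce8420e631ce841ce631ce839ce631ce841cc631ce839cc631ce8398c631ce842108421074210841d074210839d074210739d07420e739d0741ce739d0739ce739d074210839ce74210739ce7420e739ce741ce739ce739ce739ce74210731ce7420e731ce741ce731ce739ce731ce7420e631ce741ce631ce739ce631ce741cc631ce739cc631ce7398c631ce742107318e7420e73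18e741ce7318e739ce7318e7420e6318e741ce6318e739ce6318e741cc6318e739cc6318e7398c6318e7420e6298e741ce6298e739ce6298e741cc6298e739cc6298e7398c6298e741cc5298e739cc5298e7398c5298e7398a5298e7420e6298c741ce6298c739ce6298c741cc6298c739cc6298c7398c6298c741cc5298c739cc5298c7398c5298c7398a5298c741cc5218c739cc5218c7398c5218c7398a5218c7398a4218c741cc5214c739cc5214c7398c5214c7398a5214c7398a4214c7398a4194c7398a4194a741cc5214c639cc5214c6398c5214c6398a5214c6398a4214c6398a4194c6398a4190c6398a4194a6398a4190a6398a4110a6398a3110a639883110a639483110a631483110a6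

theorem rootCoeffE8 : ∃ m, RootCoeff chevE8 m :=
  ⟨_, rootCoeff_of_chk (M := ME8) (by decide +kernel) (by decide +kernel) (by decide +kernel)⟩

theorem exists_rootCoeff {D : ChevalleyDatum} (hD : D ∈ [chevG2, chevB2, chevD4, chevF4, chevE6, chevE7, chevE8]) :
    ∃ m, RootCoeff D m := by
  simp only [List.mem_cons, List.not_mem_nil, or_false] at hD
  rcases hD with h | h | h | h | h | h | h <;> rw [h]
  · exact rootCoeffG2
  · exact rootCoeffB2
  · exact rootCoeffD4
  · exact rootCoeffF4
  · exact rootCoeffE6
  · exact rootCoeffE7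
  · exact rootCoeffE8

end Cfsg.Agent.H70.RootCoeffTab
end

-- part: H70/ChevDiag
section
/-!
# Diagonal automorphisms of the Chevalley groups

* `charDiag_mul_x`: `ĥ(χ) x_r(t) = x_r(χ(r) t) ĥ(χ)` for a function `χ` on the roots which is multiplicative along the
  `r`-chains;
* `exists_diagAut`: for all `c i ≠ 0` there is a character `χ` of the root lattice with `χ(p_i) = c_i`, conjugation by
  `ĥ(χ)` is an automorphism of `D.group F`, and it maps `x_r(t)` to `x_r(χ(r) t)` for all roots `r`.
-/

set_option autoImplicit false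

namespace Cfsg.Agent.H70.ChevDiag

open Cfsg.Lie Cfsg.Agent.ChevalleyStructure.Elts Cfsg.Agent.H70.RootCoeffTab

universe u

variable {D : ChevalleyDatum} {F : Type u} [Field F]

/-- `χ` is multiplicative along the `r`-chains. -/
structure ChainMul (D : ChevalleyDatum) (r : ℕ) (χ : ℕ → Fˣ) : Prop where
  neg : χ (D.neg r) = (χ r)⁻¹
  chain : ∀ e ∈ (D.chain.getD r #[]).toList, ∀ (k : ℕ) (q : ℕ × ℤ), e.2.toList[k]? = some q →
    χ q.1 = χ e.1 * χ r ^ (k + 1)

theorem ChainMul.coeff {r : ℕ} {χ : ℕ → Fˣ} (h : ChainMul D r χ) {s u : ℕ}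
    {km : ℕ × ℤ} (hkm : km ∈ D.chainCoeff r s u) : χ u = χ s * χ r ^ km.1 := by
  unfold ChevalleyDatum.chainCoeff at hkm
  simp only [List.mem_flatMap, List.mem_filter, List.mem_map, decide_eq_true_eq] at hkm
  obtain ⟨e, ⟨he, rfl⟩, q, ⟨hq, rfl⟩, rfl⟩ := hkm
  have h1 : e.2.toList[q.2]? = some q.1 := by
    rw [List.mem_zipIdx_iff_getElem?] at hq
    exact hq
  exact h.chain e he q.2 q.1 h1

/-- `ĥ(χ) x_r(t) = x_r(χ(r) t) ĥ(χ)` -/
theorem charDiag_mul_x {r : ℕ} {χ : ℕ → Fˣ} (h : ChainMul D r χ) (t : F) :
    D.charDiag F χ * D.x F r t = D.x F r ((χ r : F) * t) * D.charDiag F χ := by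
  by_cases hr : r < D.nroots
  swap
  · rw [x_of_not_lt hr, x_of_not_lt hr, mul_one, one_mul]
  unfold ChevalleyDatum.charDiag ChevalleyDatum.x
  rw [dif_pos hr, dif_pos hr]
  ext row col
  rw [Matrix.mul_diagonal, Matrix.diagonal_mul]
  unfold ChevalleyDatum.xMat
  rw [Matrix.of_apply, Matrix.of_apply]
  have hneg : ((χ (D.neg r) : Fˣ) : F) = (χ r : F)⁻¹ := by
    rw [h.neg, Units.val_inv_eq_inv_val]
  rcases col with j | s
  · rcases row with i | u
    · simp
    · simp only [Sum.elim_inl, Sum.elim_inr]
      by_cases hu : u = ⟨r, hr⟩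
      · rw [if_pos hu, if_pos hu, hu]
        ring
      · rw [if_neg hu, if_neg hu]
        ring
  · simp only [Sum.elim_inr]
    by_cases h1 : s = ⟨r, hr⟩
    · simp only [h1, if_true]
      rcases row with i | u
      · simp
      · simp only [Sum.elim_inr]
        by_cases hu : u = ⟨r, hr⟩
        · simp [hu]
        · simp [hu]
    · simp only [h1, if_false]
      by_cases h2 : (s : ℕ) = D.negIdx.getD r 0
      · have h2' : ((χ (s : ℕ) : Fˣ) : F) = (χ r : F)⁻¹ := by
          rw [h2]
          exact hneg
        rw [if_pos h2, if_pos h2]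
        rcases row with i | u
        · simp only [Sum.elim_inl, h2']
          field_simp
        · simp only [Sum.elim_inr]
          by_cases h3 : u = s
          · rw [if_pos h3, if_pos h3, h3]
            ring
          · rw [if_neg h3, if_neg h3]
            by_cases h4 : u = ⟨r, hr⟩
            · rw [if_pos h4, if_pos h4, h4]
              simp only [h2']
              field_simp
            · rw [if_neg h4, if_neg h4]
              ring
      · rw [if_neg h2, if_neg h2]
        rcases row with i | u
        · simp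
        · simp only [Sum.elim_inr]
          have key : ∀ l : List (ℕ × ℤ), (∀ km ∈ l, χ (u : ℕ) = χ (s : ℕ) * χ r ^ km.1) →
              ((χ (u : ℕ) : Fˣ) : F) * (l.map fun km => ((km.2 : ℤ) : F) * t ^ km.1).sum =
              (l.map fun km => ((km.2 : ℤ) : F) * ((χ r : F) * t) ^ km.1).sum * ((χ (s : ℕ) : Fˣ) : F) := by
            intro l hl
            induction l with
            | nil => simp
            | cons km l ih =>
              rw [List.map_cons, List.sum_cons, List.map_cons, List.sum_cons, add_mul, mul_add,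
                ih fun km' hkm' => hl km' (List.mem_cons_of_mem _ hkm')]
              congr 1
              rw [hl km (List.mem_cons_self ..), Units.val_mul, Units.val_pow_eq_pow_val, mul_pow]
              ring
          rw [mul_add, add_mul, key _ fun km hkm => h.coeff hkm]
          congr 1
          by_cases h3 : u = s
          · rw [if_pos h3, h3]
            ring
          · rw [if_neg h3]
            ring

theorem charDiag_mul_inv (χ : ℕ → Fˣ) : D.charDiag F χ * D.charDiag F (fun r => (χ r)⁻¹) = 1 := by
  unfold ChevalleyDatum.charDiag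
  rw [Matrix.diagonal_mul_diagonal, ← Matrix.diagonal_one]
  congr 1
  funext c
  rcases c with c | c <;> simp

theorem charDiag_inv_mul (χ : ℕ → Fˣ) : D.charDiag F (fun r => (χ r)⁻¹) * D.charDiag F χ = 1 := by
  unfold ChevalleyDatum.charDiag
  rw [Matrix.diagonal_mul_diagonal, ← Matrix.diagonal_one]
  congr 1
  funext c
  rcases c with c | c <;> simp

/-- `ĥ(χ)` in the general linear group -/
def dG (D : ChevalleyDatum) (χ : ℕ → Fˣ) : GL D.Idx F where
  val := D.charDiag F χ
  inv := D.charDiag F (fun r => (χ r)⁻¹)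
  val_inv := charDiag_mul_inv χ
  inv_val := charDiag_inv_mul χ

@[simp] theorem coe_dG (χ : ℕ → Fˣ) : ((dG D χ : GL D.Idx F) : Matrix D.Idx D.Idx F) = D.charDiag F χ := rfl

@[simp] theorem coe_dG_inv (χ : ℕ → Fˣ) :
    (((dG D χ)⁻¹ : GL D.Idx F) : Matrix D.Idx D.Idx F) = D.charDiag F (fun r => (χ r)⁻¹) := rfl

/-- `χ` is multiplicative along all chains. -/
def IsMul (D : ChevalleyDatum) (χ : ℕ → Fˣ) : Prop := ∀ r < D.nroots, ChainMul D r χ

theorem dG_conj (hD : InList D) {χ : ℕ → Fˣ} (h : IsMul D χ) (r : ℕ) (t : F) :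
    dG D χ * xG hD r t * (dG D χ)⁻¹ = xG hD r ((χ r : F) * t) := by
  by_cases hr : r < D.nroots
  · rw [mul_inv_eq_iff_eq_mul]
    refine Units.ext ?_
    rw [Units.val_mul, Units.val_mul, coe_xG, coe_xG, coe_dG]
    exact charDiag_mul_x (h r hr) t
  · rw [xG_of_not_lt hD hr, xG_of_not_lt hD hr, mul_one, mul_inv_cancel]

theorem dG_conj_inv (hD : InList D) {χ : ℕ → Fˣ} (h : IsMul D χ) (r : ℕ) (t : F) :
    (dG D χ)⁻¹ * xG hD r t * dG D χ = xG hD r (((χ r)⁻¹ : Fˣ) * t) := by
  have h1 := dG_conj hD h r (((χ r)⁻¹ : Fˣ) * t)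
  rw [← mul_assoc, ← Units.val_mul, mul_inv_cancel, Units.val_one, one_mul] at h1
  rw [← h1]
  group

theorem dG_conj_mem (hD : InList D) {χ : ℕ → Fˣ} (h : IsMul D χ) {g : GL D.Idx F} (hg : g ∈ D.group F) :
    dG D χ * g * (dG D χ)⁻¹ ∈ D.group F := by
  have h1 : D.group F ≤ (D.group F).comap (MulAut.conj (dG D χ)).toMonoidHom := by
    rw [group_le_iff hD]
    intro r _ t
    show dG D χ * xG hD r t * (dG D χ)⁻¹ ∈ D.group F
    rw [dG_conj hD h]
    exact xG_mem_group hD _ _
  exact h1 hg

theorem dG_conj_inv_mem (hD : InList D) {χ : ℕ → Fˣ} (h : IsMul D χ) {g : GL D.Idx F} (hg : g ∈ D.group F) :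
    (dG D χ)⁻¹ * g * dG D χ ∈ D.group F := by
  have h1 : D.group F ≤ (D.group F).comap (MulAut.conj (dG D χ)⁻¹).toMonoidHom := by
    rw [group_le_iff hD]
    intro r _ t
    show (dG D χ)⁻¹ * xG hD r t * (dG D χ)⁻¹⁻¹ ∈ D.group F
    rw [inv_inv, dG_conj_inv hD h]
    exact xG_mem_group hD _ _
  have h2 : (dG D χ)⁻¹ * g * (dG D χ)⁻¹⁻¹ ∈ D.group F := h1 hg
  rwa [inv_inv] at h2

/-- Conjugation by `ĥ(χ)` as an automorphism of the Chevalley group. -/
def diagAut (hD : InList D) {χ : ℕ → Fˣ} (h : IsMul D χ) : MulAut ↥(D.group F) where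
  toFun g := ⟨dG D χ * (g : GL D.Idx F) * (dG D χ)⁻¹, dG_conj_mem hD h g.2⟩
  invFun g := ⟨(dG D χ)⁻¹ * (g : GL D.Idx F) * dG D χ, dG_conj_inv_mem hD h g.2⟩
  left_inv g := by
    apply Subtype.ext
    show (dG D χ)⁻¹ * (dG D χ * (g : GL D.Idx F) * (dG D χ)⁻¹) * dG D χ = g
    group
  right_inv g := by
    apply Subtype.ext
    show dG D χ * ((dG D χ)⁻¹ * (g : GL D.Idx F) * dG D χ) * (dG D χ)⁻¹ = g
    group
  map_mul' g k := by
    apply Subtype.ext
    show dG D χ * ((g : GL D.Idx F) * (k : GL D.Idx F)) * (dG D χ)⁻¹ =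
      (dG D χ * (g : GL D.Idx F) * (dG D χ)⁻¹) * (dG D χ * (k : GL D.Idx F) * (dG D χ)⁻¹)
    group

theorem coe_diagAut (hD : InList D) {χ : ℕ → Fˣ} (h : IsMul D χ) (g : ↥(D.group F)) :
    ((diagAut hD h g : ↥(D.group F)) : GL D.Idx F) = dG D χ * (g : GL D.Idx F) * (dG D χ)⁻¹ := rfl

/-- A function multiplicative along all chains is a character of the root lattice. -/
theorem IsMul.isRootCharacter {χ : ℕ → Fˣ} (h : IsMul D χ) : D.IsRootCharacter χ := by
  refine ⟨fun r hr => (h r hr).neg, ?_⟩
  intro r s k hr hs hk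
  unfold ChevalleyDatum.chainRoot ChevalleyDatum.chainEntry at hk
  cases he : (D.chain.getD r #[]).toList.find? (fun e => e.1 = s) with
  | none =>
    rw [he] at hk
    simp at hk
  | some e =>
    rw [he] at hk
    have h1 := List.mem_of_find?_eq_some he
    have h2 := List.find?_some he
    simp only [decide_eq_true_eq] at h2
    simp only [Nat.sub_self, Option.map_eq_some_iff] at hk
    obtain ⟨q, hq, rfl⟩ := hk
    have h3 := (h r hr).chain e h1 0 q hq
    rw [h3, h2, zero_add, pow_one, mul_comm]

theorem isDiagonalAut_diagAut (hD : InList D) {χ : ℕ → Fˣ} (h : IsMul D χ) : D.IsDiagonalAut (diagAut hD h) :=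
  ⟨χ, h.isRootCharacter, fun _ => rfl⟩

/-- the character with prescribed values on the fundamental roots -/
def chi (l : ℕ) (m : ℕ → ℕ → ℤ) (c : Fin l → Fˣ) (r : ℕ) : Fˣ := ∏ i : Fin l, c i ^ m r i

theorem isMul_chi (hD : InList D) {m : ℕ → ℕ → ℤ} (hm : RootCoeff D m) (c : Fin D.rank → Fˣ) :
    IsMul D (chi D.rank m c) := by
  intro r hr
  constructor
  · unfold chi
    rw [← Finset.prod_inv_distrib]
    refine Finset.prod_congr rfl fun i _ => ?_
    rw [hm.neg r hr i i.2, zpow_neg]
  · intro e he k q hq
    unfold chi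
    rw [← Finset.prod_pow, ← Finset.prod_mul_distrib]
    refine Finset.prod_congr rfl fun i _ => ?_
    rw [hm.chain r e he k q hq i i.2, zpow_add, mul_comm ((k : ℤ) + 1), zpow_mul]
    norm_cast

theorem chi_simple (hD : InList D) {m : ℕ → ℕ → ℤ} (hm : RootCoeff D m) (c : Fin D.rank → Fˣ) (j : Fin D.rank) :
    chi D.rank m c (D.simple j) = c j := by
  unfold chi
  rw [Finset.prod_eq_single j]
  · rw [hm.simple j j.2 j j.2, if_pos rfl, zpow_one]
  · intro i _ hij
    rw [hm.simple j j.2 i i.2, if_neg, zpow_zero]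
    intro h
    exact hij (Fin.ext h.symm)
  · intro h
    exact absurd (Finset.mem_univ _) h

/-- **Diagonal automorphisms**: every choice of the values on the fundamental roots is realised. -/
theorem exists_diagAut (hD : InList D) (c : Fin D.rank → Fˣ) : ∃ χ : ℕ → Fˣ, IsMul D χ ∧
    (∀ j : Fin D.rank, χ (D.simple j) = c j) ∧ ∀ j : Fin D.rank, χ (D.neg (D.simple j)) = (c j)⁻¹ := by
  obtain ⟨m, hm⟩ := exists_rootCoeff hD
  refine ⟨chi D.rank m c, isMul_chi hD hm c, chi_simple hD hm c, fun j => ?_⟩
  have hlt := (Cfsg.Agent.ChevalleyStructure.RootComb.good_of_mem hD).simple_lt j.2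
  rw [(isMul_chi hD hm c _ hlt).neg, chi_simple hD hm c]

end Cfsg.Agent.H70.ChevDiag
end
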