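import Cfsg.Prelude.Def_KGroupFacts
import Cfsg.Agent.ThreePrime.SzAut
import Cfsg.Agent.S1163
import Cfsg.Agent.Lib.FieldAutCard
set_option linter.all false

/-!
# The outer automorphism group of `Sz(q)`

Every automorphism is the product of a field automorphism and an inner automorphism.
-/

set_option autoImplicit false

namespace Cfsg.Agent.H70.SzOut

open Cfsg Cfsg.Agent.ThreePrime Cfsg.Agent.ThreePrime.SzRel Cfsg.Agent.LieRecognition.SzMatrix

open scoped Matrix

section rel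

variable {J : Type*} [Group J] {F : Type*} [Field F] (R : SzRel.Rel J F)

/-- `ψ` fixes `T` and moves `w` within its coset of `N(T)` -/
structure Fix (ψ : MulAut J) : Prop where
  T : ∀ x ∈ R.T, ψ x ∈ R.T
  w : R.w * ψ R.w ∈ Subgroup.normalizer (R.T : Set J)

/-- an automorphism mapping `T` into `T` normalises `N(T)` -/
theorem map_normalizer {ψ : MulAut J} (h1 : ∀ x ∈ R.T, ψ x ∈ R.T) {g : J}
    (hg : g ∈ Subgroup.normalizer (R.T : Set J)) : ψ g ∈ Subgroup.normalizer (R.T : Set J) := by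
  have h3 : ψ (g * R.u 0 1 * g⁻¹) ∈ R.T :=
    h1 _ ((Subgroup.mem_normalizer_iff.1 hg _).1 (R.u_mem 0 1))
  rw [map_mul, map_mul, map_inv] at h3
  refine R.ti (h1 _ (R.u_mem 0 1)) ?_ h3
  intro h4
  rw [← map_one ψ] at h4
  exact R.u_ne_one one_ne_zero (ψ.injective h4)

theorem Fix.mul {ψ χ : MulAut J} (h1 : Fix R ψ) (h2 : Fix R χ) : Fix R (ψ * χ) where
  T x hx := h1.T _ (h2.T x hx)
  w := by
    have h3 : R.w * (ψ * χ) R.w = (R.w * ψ R.w) * ψ (R.w * χ R.w) := by
      rw [MulAut.mul_apply, map_mul, ← mul_assoc, mul_assoc R.w, ← map_mul, R.w_mul_w, map_one, mul_one]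
    rw [h3]
    exact mul_mem h1.w (map_normalizer R h1.T h2.w)

theorem fix_conj_d (k : Fˣ) : Fix R (MulAut.conj (R.d k)) where
  T x hx := by
    rw [MulAut.conj_apply]
    exact (Subgroup.mem_normalizer_iff.1 (R.D_le (R.d_mem k)) x).1 hx
  w := by
    have h1 : R.w * MulAut.conj (R.d k) R.w = R.d k⁻¹ * R.d k⁻¹ := by
      rw [MulAut.conj_apply, ← mul_assoc, ← mul_assoc, R.w_mul_d, R.d_inv, mul_assoc (R.d k⁻¹), R.w_mul_w, mul_one]
    rw [h1]
    exact R.D_le (mul_mem (R.d_mem _) (R.d_mem _))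

/-- **Step 1.** The field automorphism belonging to an automorphism fixing `T` and `T ^ w`. -/
theorem exists_field [Finite F] {ψ : MulAut J} (hψ : Fix R ψ) :
    ∃ (σ : F ≃+* F) (c : F), c ≠ 0 ∧ (∀ b, ψ (R.u 0 b) = R.u 0 (c * σ b)) ∧
      ∀ k : Fˣ, ∃ l : Fˣ, ψ (R.d k) = R.d l ∧ R.θ l = σ (R.θ k) := by
  obtain ⟨h1, h2⟩ := hψ
  have hκ : ∀ k : Fˣ, ∃ l : Fˣ, ψ (R.d k) = R.d l := fun k => R.map_D h1 h2 k
  choose κ hκ using hκ
  have hβ : ∀ b : F, ∃ c : F, ψ (R.u 0 b) = R.u 0 c := by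
    intro b
    obtain ⟨a, c, h⟩ := h1 _ (R.u_mem 0 b)
    have h3 : ψ (R.u 0 b) * ψ (R.u 0 b) = 1 := by
      rw [← map_mul, (R.u_sq_iff 0 b).2 rfl, map_one]
    rw [h, R.u_sq_iff] at h3
    subst h3
    exact ⟨c, h⟩
  choose β hβ using hβ
  have hβadd : ∀ b c, β (b + c) = β b + β c := by
    intro b c
    have h3 : ψ (R.u 0 b * R.u 0 c) = ψ (R.u 0 (b + c)) := by
      congr 1
      rw [R.u_mul]
      congr 1
      · ring
      · ring
    rw [map_mul, hβ, hβ, hβ, R.u_mul] at h3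
    have := (R.u_inj h3).2
    linear_combination -this
  have hβd : ∀ (b : F) (k : Fˣ), β (b * R.θ k) = β b * R.θ (κ k) := by
    intro b k
    have h3 := congrArg ψ (R.conj_d k 0 b)
    rw [map_mul, map_mul, map_inv, hκ, hβ, R.conj_d, zero_mul, zero_mul, zero_mul, zero_mul, hβ] at h3
    exact (R.u_inj h3).2.symm
  have hβ0 : β 0 = 0 := by
    have := hβadd 0 0
    rw [add_zero] at this
    linear_combination -this
  have hβ1 : β 1 ≠ 0 := by
    intro h
    have h3 := hβ 1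
    rw [h, R.u_zero, ← map_one ψ] at h3
    exact R.u_ne_one one_ne_zero (ψ.injective h3)
  -- the field automorphism
  have hσθ : ∀ k : Fˣ, β (R.θ k) / β 1 = R.θ (κ k) := by
    intro k
    have := hβd 1 k
    rw [one_mul] at this
    rw [this, mul_div_cancel_left₀ _ hβ1]
  have hσmul : ∀ b c, β (b * c) / β 1 = (β b / β 1) * (β c / β 1) := by
    intro b c
    by_cases hc : c = 0
    · rw [hc, mul_zero, hβ0]; ring
    · obtain ⟨k, hk⟩ := R.theta_surj c
      have hk0 : k ≠ 0 := by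
        rintro rfl
        rw [map_zero] at hk
        exact hc hk.symm
      have h3 := hβd b (Units.mk0 k hk0)
      have h4 := hσθ (Units.mk0 k hk0)
      rw [Units.val_mk0, hk] at h3 h4
      rw [h3, h4]
      ring
  let σ₀ : F →+* F :=
    { toFun := fun b => β b / β 1
      map_one' := div_self hβ1
      map_mul' := hσmul
      map_zero' := by
        show β 0 / β 1 = 0
        rw [hβ0, zero_div]
      map_add' := fun b c => by
        show β (b + c) / β 1 = β b / β 1 + β c / β 1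
        rw [hβadd, add_div] }
  have hσ₀ : Function.Bijective σ₀ :=
    ⟨σ₀.injective, Finite.surjective_of_injective σ₀.injective⟩
  refine ⟨RingEquiv.ofBijective σ₀ hσ₀, β 1, hβ1, fun b => ?_, fun k => ⟨κ k, hκ k, ?_⟩⟩
  · rw [hβ]
    congr 1
    show β b = β 1 * (β b / β 1)
    rw [mul_div_cancel₀ _ hβ1]
  · exact (hσθ k).symm

/-- **Step 2.** An automorphism fixing `T`, `T ^ w`, `Z(T)` and `D` elementwise is trivial. -/
theorem eq_one [Finite F] (h8 : 8 ≤ Nat.card F) {ψ : MulAut J} (hψ : Fix R ψ) (hβ : ∀ b, ψ (R.u 0 b) = R.u 0 b)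
    (hκ : ∀ k, ψ (R.d k) = R.d k) : ψ = 1 := by
  obtain ⟨h1, h2⟩ := hψ
  have hα : ∀ a : F, ∃ p : F × F, ψ (R.u a 0) = R.u p.1 p.2 := by
    intro a
    obtain ⟨x, y, h⟩ := h1 _ (R.u_mem a 0)
    exact ⟨(x, y), h⟩
  choose αγ hα using hα
  let α : F → F := fun a => (αγ a).1
  let γ : F → F := fun a => (αγ a).2
  have hα : ∀ a, ψ (R.u a 0) = R.u (α a) (γ a) := hα
  have hu : ∀ a b : F, R.u a b = R.u a 0 * R.u 0 b := by
    intro a b
    rw [R.u_mul]
    congr 1
    · ring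
    · rw [map_zero]; ring
  have hαβ : ∀ a b, ψ (R.u a b) = R.u (α a) (γ a + b) := by
    intro a b
    rw [hu, map_mul, hα, hβ, R.u_mul]
    congr 1
    · ring
    · rw [map_zero]; ring
  -- squares
  have hα5 : ∀ a, α a * R.θ (α a) = a * R.θ a := by
    intro a
    have h3 := congrArg ψ (R.u_mul_self a 0)
    rw [map_mul, hα, R.u_mul_self, hβ] at h3
    exact (R.u_inj h3).2
  have hα4 : ∀ a, α a = a := by
    intro a
    have h3 := hα5 a
    have h4 := congrArg R.θ h3
    rw [map_mul, map_mul, R.sq, R.sq] at h4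
    by_cases ha : a = 0
    · subst ha
      rw [map_zero, mul_zero] at h3
      rcases mul_eq_zero.mp h3 with h5 | h5
      · exact h5
      · exact (map_eq_zero R.θ).mp h5
    · have hθ : R.θ a ≠ 0 := fun h => ha ((map_eq_zero R.θ).mp h)
      have h5 : α a ≠ 0 := by
        intro h
        rw [h, zero_mul] at h3
        exact mul_ne_zero ha hθ h3.symm
      -- `θ(α a) α(a) ^ 2 = θ(a) a ^ 2`
      have h6 : (a * R.θ a) * α a = (a * R.θ a) * a := by
        calc (a * R.θ a) * α a = (α a * R.θ (α a)) * α a := by rw [h3]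
          _ = R.θ (α a) * α a ^ 2 := by ring
          _ = R.θ a * a ^ 2 := h4
          _ = _ := by ring
      exact mul_left_cancel₀ (mul_ne_zero ha hθ) h6
  -- the cocycle
  have hαd : ∀ (a : F) (k : Fˣ), γ (a * k ^ 2 * (R.θ k)⁻¹) = γ a * R.θ k := by
    intro a k
    have h3 := congrArg ψ (R.conj_d k a 0)
    rw [map_mul, map_mul, map_inv, hκ, hα, R.conj_d, zero_mul, hα] at h3
    exact (R.u_inj h3).2.symm
  have hγadd : ∀ a c, γ (a + c) = γ a + γ c := by
    intro a c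
    have h3 := congrArg ψ (R.u_mul a 0 c 0)
    rw [map_mul, hα, hα, hαβ, R.u_mul, hα4, hα4] at h3
    have := (R.u_inj h3).2
    linear_combination -this
  have hγ1 : ∀ x : F, γ x = γ 1 * (x * R.θ x) := by
    intro x
    by_cases hx : x = 0
    · subst hx
      have := hγadd 0 0
      rw [add_zero] at this
      rw [map_zero, mul_zero, mul_zero]
      linear_combination -this
    · obtain ⟨k, hk⟩ := R.exists_sq_div (Units.mk0 x hx)
      rw [Units.val_mk0] at hk
      have h3 := hαd 1 k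
      rw [one_mul, hk] at h3
      rw [h3]
      congr 1
      rw [← hk, map_mul, map_inv₀, map_pow, R.sq]
      have h5 := R.theta_ne_zero k
      have h6 := k.ne_zero
      field_simp
  have hγ2 : γ 1 = 0 := by
    obtain ⟨x, hx⟩ := R.exists_theta_ne h8
    have h3 := hγadd 1 x
    rw [hγ1 (1 + x), hγ1 x, map_add, map_one] at h3
    have h4 : γ 1 * (x + R.θ x) = 0 := by linear_combination h3
    rcases mul_eq_zero.mp h4 with h5 | h5
    · exact h5
    · exfalso
      apply hx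
      linear_combination h5 - x * R.two
  refine R.eq_one_of_fix ?_ h2
  rintro _ ⟨a, b, rfl⟩
  rw [hαβ, hα4, hγ1, hγ2]
  congr 1
  ring

/-- **Step 0.** If `T` is a Sylow subgroup, every automorphism is the product of an inner automorphism and one fixing
`T` and `T ^ w`. -/
theorem exists_fix [Finite J] (S : Sylow 2 J) (hS : (S : Subgroup J) = R.T) (ψ : MulAut J) :
    ∃ g : J, Fix R (MulAut.conj g * ψ) := by
  classical
  obtain ⟨g, hg⟩ := MulAction.exists_smul_eq J (S.mapSurjective (f := (ψ : J →* J)) ψ.surjective) S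
  have hT : ∀ x ∈ R.T, (MulAut.conj g * ψ) x ∈ R.T := by
    intro x hx
    rw [← hS, ← hg]
    rw [Sylow.coe_subgroup_smul, Subgroup.mem_pointwise_smul_iff_inv_smul_mem, MulAut.mul_apply]
    have h1 : ((MulAut.conj g)⁻¹ • (MulAut.conj g) (ψ x) : J) = ψ x := inv_smul_smul (MulAut.conj g) (ψ x)
    rw [h1]
    exact ⟨x, by rw [hS]; exact hx, rfl⟩
  set χ : MulAut J := MulAut.conj g * ψ with hχ
  have hw : χ R.w ∉ Subgroup.normalizer (R.T : Set J) := by
    intro h
    apply R.w_not_mem_normalizer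
    have hsurj : ∀ y ∈ R.T, χ⁻¹ y ∈ R.T := by
      have h2 : Function.Injective (fun x : R.T => (⟨χ x, hT x x.2⟩ : R.T)) := by
        intro a b hab
        exact Subtype.ext (χ.injective (congrArg Subtype.val hab))
      intro y hy
      obtain ⟨⟨x, hx⟩, hxy⟩ := (Finite.surjective_of_injective h2) ⟨y, hy⟩
      have h3 : χ x = y := congrArg Subtype.val hxy
      rw [← h3, MulAut.inv_apply_self]
      exact hx
    have h4 := map_normalizer R hsurj h
    rwa [MulAut.inv_apply_self] at h4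
  rcases R.bruhat (χ R.w) with ⟨a, b, k, h⟩ | ⟨a, b, c, e, k, h⟩
  · exfalso
    apply hw
    rw [h]
    exact R.ud_mem_normalizer a b k
  · refine ⟨(R.u a b)⁻¹ * g, ?_, ?_⟩
    · intro x hx
      have h5 : (MulAut.conj ((R.u a b)⁻¹ * g) * ψ) x = (R.u a b)⁻¹ * χ x * ((R.u a b)⁻¹)⁻¹ := by
        rw [map_mul, mul_assoc, MulAut.mul_apply, ← hχ, MulAut.conj_apply]
      rw [h5]
      exact mul_mem (mul_mem (inv_mem (R.u_mem _ _)) (hT x hx)) (inv_mem (inv_mem (R.u_mem _ _)))
    · have h5 : (MulAut.conj ((R.u a b)⁻¹ * g) * ψ) R.w = (R.u a b)⁻¹ * χ R.w * ((R.u a b)⁻¹)⁻¹ := by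
        rw [map_mul, mul_assoc, MulAut.mul_apply, ← hχ, MulAut.conj_apply]
      rw [h5, h]
      have h6 : R.w * ((R.u a b)⁻¹ * (R.u a b * R.w * (R.u c e * R.d k)) * ((R.u a b)⁻¹)⁻¹) =
          (R.w * R.w) * (R.u c e * R.d k) * R.u a b := by group
      rw [h6, R.w_mul_w, one_mul]
      refine mul_mem (R.ud_mem_normalizer c e k) ?_
      have := R.ud_mem_normalizer a b 1
      rwa [R.d_one, mul_one] at this

end rel

section sz

variable {F : Type*} [Field F] {θ : F →+* F} {e : ℕ}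

theorem theta_comm (H : Good F θ e) (σ : F →+* F) (x : F) : θ (σ x) = σ (θ x) := by
  rw [← H.pow, ← H.pow, map_pow]

theorem J_map (σ : F →+* F) : (J F).map σ = J F := by
  ext i j
  fin_cases i <;> fin_cases j <;> simp [J]

theorem map_mem_Sz (H : Good F θ e) (σ : F →+* F) {g : GL (Fin 4) F} (hg : g ∈ Cfsg.Lie.Sz F e) :
    Matrix.GeneralLinearGroup.map σ g ∈ Cfsg.Lie.Sz F e := by
  rw [H.mem_Sz, mem_Sp4_iff] at hg ⊢
  have h1 : ((Matrix.GeneralLinearGroup.map σ g : GL (Fin 4) F) : Matrix (Fin 4) (Fin 4) F) =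
      (g : Matrix (Fin 4) (Fin 4) F).map σ := rfl
  rw [h1]
  constructor
  · rw [← Matrix.transpose_map, ← J_map σ, ← Matrix.map_mul, ← Matrix.map_mul, hg.1]
  · ext p r
    have h2 := congrFun (congrFun hg.2 p) r
    rw [star4_apply, Matrix.map_apply] at h2
    rw [star4_apply, Matrix.map_apply, Matrix.map_apply, Matrix.map_apply, Matrix.map_apply, Matrix.map_apply,
      Matrix.map_apply, theta_comm H, ← h2, map_sub, map_mul, map_mul]

/-- The action of a field automorphism on `Sz(F)`. -/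
def fieldHom (H : Good F θ e) (σ : F →+* F) : ↥(Cfsg.Lie.Sz F e) →* ↥(Cfsg.Lie.Sz F e) where
  toFun g := ⟨Matrix.GeneralLinearGroup.map σ g.1, map_mem_Sz H σ g.2⟩
  map_one' := Subtype.ext (map_one _)
  map_mul' g h := Subtype.ext (map_mul _ _ _)

theorem fieldHom_apply (H : Good F θ e) (σ : F →+* F) (g : ↥(Cfsg.Lie.Sz F e)) (i j : Fin 4) :
    (fieldHom H σ g).1.1 i j = σ (g.1.1 i j) := rfl

theorem ext_mat {g h : ↥(Cfsg.Lie.Sz F e)} (H : ∀ i j, g.1.1 i j = h.1.1 i j) : g = h :=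
  Subtype.ext (Units.ext (Matrix.ext H))

/-- The field automorphisms of `Sz(F)`. -/
def fieldAut (H : Good F θ e) : (F ≃+* F) →* MulAut ↥(Cfsg.Lie.Sz F e) where
  toFun σ :=
    { toFun := fieldHom H (σ : F →+* F)
      invFun := fieldHom H (σ.symm : F →+* F)
      left_inv := fun g => ext_mat fun i j => by
        rw [fieldHom_apply, fieldHom_apply]
        exact σ.symm_apply_apply _
      right_inv := fun g => ext_mat fun i j => by
        rw [fieldHom_apply, fieldHom_apply]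
        exact σ.apply_symm_apply _
      map_mul' := map_mul _ }
  map_one' := by
    ext1 g
    exact ext_mat fun i j => rfl
  map_mul' σ τ := by
    ext1 g
    exact ext_mat fun i j => rfl

theorem fieldAut_apply (H : Good F θ e) (σ : F ≃+* F) (g : ↥(Cfsg.Lie.Sz F e)) (i j : Fin 4) :
    (fieldAut H σ g).1.1 i j = σ (g.1.1 i j) := rfl

theorem fieldAut_u (H : Good F θ e) (σ : F ≃+* F) (a b : F) : fieldAut H σ (H.u a b) = H.u (σ a) (σ b) := by
  have h := fun x => theta_comm H (σ : F →+* F) x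
  simp only [RingEquiv.coe_toRingHom] at h
  refine ext_mat fun i j => ?_
  rw [fieldAut_apply]
  show σ (Umat θ a b i j) = Umat θ (σ a) (σ b) i j
  fin_cases i <;> fin_cases j <;> simp [Umat, h]

theorem fieldAut_d (H : Good F θ e) (σ : F ≃+* F) (k : Fˣ) :
    fieldAut H σ (H.d k) = H.d (Units.map (σ : F →* F) k) := by
  have h := fun x => theta_comm H (σ : F →+* F) x
  simp only [RingEquiv.coe_toRingHom] at h
  refine ext_mat fun i j => ?_
  rw [fieldAut_apply]
  show σ (Dmat θ k i j) = Dmat θ (Units.map (σ : F →* F) k) i j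
  fin_cases i <;> fin_cases j <;> simp [Dmat, h]

theorem fieldAut_w (H : Good F θ e) (σ : F ≃+* F) : fieldAut H σ H.w = H.w := by
  refine ext_mat fun i j => ?_
  rw [fieldAut_apply]
  show σ (J F i j) = J F i j
  fin_cases i <;> fin_cases j <;> simp [J]

theorem fix_fieldAut (H : Good F θ e) (σ : F ≃+* F) : Fix (ofGood H) (fieldAut H σ) where
  T := by
    rintro _ ⟨a, b, rfl⟩
    exact ⟨σ a, σ b, fieldAut_u H σ a b⟩
  w := by
    have h1 : (ofGood H).w * fieldAut H σ (ofGood H).w = 1 := by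
      have h2 : fieldAut H σ (ofGood H).w = (ofGood H).w := fieldAut_w H σ
      rw [h2, (ofGood H).w_mul_w]
    rw [h1]
    exact one_mem _

/-- An automorphism fixing `T` and `T ^ w` is the product of a diagonal and a field automorphism. -/
theorem eq_of_fix [Finite F] (h8 : 8 ≤ Nat.card F) (H : Good F θ e) {ψ : MulAut ↥(Cfsg.Lie.Sz F e)}
    (hψ : Fix (ofGood H) ψ) : ∃ (σ : F ≃+* F) (k : Fˣ), ψ = MulAut.conj (H.d k) * fieldAut H σ := by
  obtain ⟨σ, c, hc, hβ, hκ⟩ := exists_field (ofGood H) hψ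
  obtain ⟨k₀, hk₀⟩ := (ofGood H).theta_surj c
  have hk0 : k₀ ≠ 0 := by
    rintro rfl
    rw [map_zero] at hk₀
    exact hc hk₀.symm
  set k : Fˣ := Units.mk0 k₀ hk0 with hk
  refine ⟨σ, k, ?_⟩
  set χ : MulAut ↥(Cfsg.Lie.Sz F e) := fieldAut H σ⁻¹ * (MulAut.conj (H.d k⁻¹) * ψ) with hχ
  have h1 : χ = 1 := by
    refine eq_one (ofGood H) h8 ?_ ?_ ?_
    · exact (fix_fieldAut H _).mul _ ((fix_conj_d (ofGood H) k⁻¹).mul _ hψ)
    · intro b
      rw [hχ, MulAut.mul_apply, MulAut.mul_apply, hβ, MulAut.conj_apply]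
      have h2 : H.d k⁻¹ * (ofGood H).u 0 (c * σ b) * (H.d k⁻¹)⁻¹ = H.u 0 (σ b) := by
        have h3 := (ofGood H).conj_d k⁻¹ 0 (c * σ b)
        have h4 : (ofGood H).d k⁻¹ = H.d k⁻¹ := rfl
        rw [h4] at h3
        rw [h3]
        show H.u _ _ = H.u _ _
        congr 1
        · rw [zero_mul, zero_mul]
        · rw [Units.val_inv_eq_inv_val, map_inv₀, hk, Units.val_mk0, hk₀]
          field_simp
      rw [h2, fieldAut_u, map_zero]
      show H.u 0 _ = H.u 0 b
      congr 1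
      exact σ.symm_apply_apply b
    · intro l
      obtain ⟨l', hl', hl2⟩ := hκ l
      rw [hχ, MulAut.mul_apply, MulAut.mul_apply, hl', MulAut.conj_apply]
      have h2 : H.d k⁻¹ * (ofGood H).d l' * (H.d k⁻¹)⁻¹ = H.d l' := by
        show H.d k⁻¹ * H.d l' * (H.d k⁻¹)⁻¹ = H.d l'
        rw [H.d_mul, mul_comm k⁻¹, ← H.d_mul, mul_inv_cancel_right]
      rw [h2, fieldAut_d]
      show H.d _ = H.d l
      congr 1
      apply Units.ext
      apply θ.injective
      have h3 : θ (l' : F) = σ (θ l) := hl2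
      show θ (σ.symm (l' : F)) = θ l
      have h4 := theta_comm H (σ.symm : F →+* F) (l' : F)
      rw [RingEquiv.coe_toRingHom] at h4
      rw [h4, h3, σ.symm_apply_apply]
  have h5 : ψ = (MulAut.conj (H.d k⁻¹))⁻¹ * ((fieldAut H σ⁻¹)⁻¹ * χ) := by
    rw [hχ]
    group
  rw [h5, h1, mul_one, ← map_inv, ← map_inv, inv_inv, H.d_inv, inv_inv]

/-- A field automorphism which is inner is trivial. -/
theorem eq_one_of_conj (H : Good F θ e) {σ : F ≃+* F} {g : ↥(Cfsg.Lie.Sz F e)}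
    (h : fieldAut H σ = MulAut.conj g) : σ = 1 := by
  have hT : g ∈ Subgroup.normalizer ((ofGood H).T : Set ↥(Cfsg.Lie.Sz F e)) := by
    refine (ofGood H).ti ((ofGood H).u_mem 0 1) ((ofGood H).u_ne_one one_ne_zero) ?_
    have h1 := (fix_fieldAut H σ).T _ ((ofGood H).u_mem 0 1)
    rwa [h, MulAut.conj_apply] at h1
  have hw : (ofGood H).w * g * (ofGood H).w ∈ Subgroup.normalizer ((ofGood H).T : Set ↥(Cfsg.Lie.Sz F e)) := by
    have h1 : g * (ofGood H).w * g⁻¹ = (ofGood H).w := by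
      rw [← MulAut.conj_apply, ← h]
      exact fieldAut_w H σ
    have h2 : (ofGood H).w * g * (ofGood H).w = g := by
      rw [mul_inv_eq_iff_eq_mul] at h1
      rw [← h1, mul_assoc, (ofGood H).w_mul_w, mul_one]
    rw [h2]
    exact hT
  obtain ⟨k, rfl⟩ := (ofGood H).mem_D_of hT hw
  apply RingEquiv.ext
  intro x
  by_cases hx : x = 0
  · rw [hx, map_zero, map_zero]
  · have h1 : fieldAut H σ (H.d (Units.mk0 x hx)) = H.d (Units.mk0 x hx) := by
      rw [h, MulAut.conj_apply]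
      show H.d k * H.d _ * (H.d k)⁻¹ = _
      rw [H.d_mul, mul_comm k, ← H.d_mul, mul_inv_cancel_right]
    rw [fieldAut_d] at h1
    have h2 := congrArg Units.val (H.d_inj h1)
    exact h2

/-- the Sylow 2-subgroup -/
theorem exists_sylow [Fintype F] {m : ℕ} (hm : 1 ≤ m) (hF : Fintype.card F = 2 ^ (2 * m + 1)) :
    ∃ S : Sylow 2 ↥(Cfsg.Lie.Sz F (2 ^ (m + 1))), (S : Subgroup ↥(Cfsg.Lie.Sz F (2 ^ (m + 1)))) =
      (ofGood (good hF)).T := by
  have H := good hF
  have hT : (ofGood (good hF)).T = (good hF).unip := by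
    ext g
    rw [(good hF).mem_unip_iff]
    rfl
  have hcardU := H.card_unip
  rw [Nat.card_eq_fintype_card (α := F), hF] at hcardU
  have hcard := (Cfsg.Agent.S1163.result hm hF).1
  have hF8 : 1 ≤ 2 ^ (2 * m) := Nat.one_le_two_pow
  have hpow : 2 ^ (2 * m + 1) = 2 * 2 ^ (2 * m) := by rw [pow_succ, mul_comm]
  have hidx : ¬ 2 ∣ H.unip.index := by
    have h1 := Subgroup.card_mul_index H.unip
    rw [hcard, hcardU, mul_assoc] at h1
    have h2 := Nat.eq_of_mul_eq_mul_left (by positivity) h1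
    rw [h2, ← even_iff_two_dvd, Nat.not_even_iff_odd, hpow]
    apply Odd.mul
    · exact ⟨2 ^ (2 * m) - 1, by omega⟩
    · exact ⟨2 * (2 ^ (2 * m) * 2 ^ (2 * m)), by ring⟩
  have hp : IsPGroup 2 H.unip := IsPGroup.of_card (n := (2 * m + 1) * 2) (by rw [hcardU, ← pow_mul])
  exact ⟨hp.toSylow hidx, hT.symm⟩

/-- **The order of `Out(Sz(q))`.** -/
theorem card_out [Fintype F] {m : ℕ} (hm : 1 ≤ m) (hF : Fintype.card F = 2 ^ (2 * m + 1)) :
    Nat.card (Out ↥(Cfsg.Lie.Sz F (2 ^ (m + 1)))) = 2 * m + 1 := by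
  have h8 : 8 ≤ Nat.card F := by
    rw [Nat.card_eq_fintype_card, hF]
    exact SzRel.Rel.eight_le hm
  obtain ⟨S, hS⟩ := exists_sylow hm hF
  let f : (F ≃+* F) →* Out ↥(Cfsg.Lie.Sz F (2 ^ (m + 1))) :=
    (QuotientGroup.mk' (Inn ↥(Cfsg.Lie.Sz F (2 ^ (m + 1))))).comp (fieldAut (good hF))
  have hinj : Function.Injective f := by
    rw [injective_iff_map_eq_one]
    intro σ hσ
    have h1 : fieldAut (good hF) σ ∈ Inn ↥(Cfsg.Lie.Sz F (2 ^ (m + 1))) := by
      rwa [← QuotientGroup.eq_one_iff]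
    obtain ⟨g, hg⟩ := h1
    exact eq_one_of_conj (good hF) hg.symm
  have hsurj : Function.Surjective f := by
    intro x
    obtain ⟨ψ, rfl⟩ := QuotientGroup.mk_surjective x
    obtain ⟨g, hg⟩ := exists_fix (ofGood (good hF)) S hS ψ
    obtain ⟨σ, k, hσ⟩ := eq_of_fix h8 (good hF) hg
    refine ⟨σ, ?_⟩
    show QuotientGroup.mk (fieldAut (good hF) σ) = QuotientGroup.mk ψ
    have h1 : ∀ x : ↥(Cfsg.Lie.Sz F (2 ^ (m + 1))),
        (QuotientGroup.mk (MulAut.conj x) : Out ↥(Cfsg.Lie.Sz F (2 ^ (m + 1)))) = 1 := by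
      intro x
      rw [QuotientGroup.eq_one_iff]
      exact ⟨x, rfl⟩
    have h2 := congrArg (QuotientGroup.mk' (Inn ↥(Cfsg.Lie.Sz F (2 ^ (m + 1))))) hσ
    rw [map_mul, map_mul, QuotientGroup.mk'_apply, QuotientGroup.mk'_apply, QuotientGroup.mk'_apply,
      QuotientGroup.mk'_apply, h1, h1, one_mul, one_mul] at h2
    exact h2.symm
  haveI : Fact (Nat.Prime 2) := ⟨Nat.prime_two⟩
  rw [← Nat.card_congr (Equiv.ofBijective f ⟨hinj, hsurj⟩)]
  exact Cfsg.Agent.Lib.FieldAutCard.card_ringAut (by omega) hF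

end sz

end Cfsg.Agent.H70.SzOut
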