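import Mathlib
import Cfsg.Agent.ChevalleyStructure.W0Main
import Cfsg.Agent.ChevalleyStructure.W0Small
import Cfsg.Agent.ChevalleyStructure.W0E6
import Cfsg.Agent.ChevalleyStructure.W0E7
import Cfsg.Agent.ChevalleyStructure.W0E8
import Cfsg.Agent.ChevalleyStructure.Reach
import Cfsg.Agent.ChevalleyStructure.NPerm
import Cfsg.Agent.S1100
import Cfsg.Agent.S1037
import Cfsg.Agent.Schreier.ChevSch
import Cfsg.Agent.TitsThree.KExcBase
set_option linter.all false

-- part: H70/AutFix
section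
/-!
# Automorphisms of a finite group with a split `(B, N)`-pair, modulo inner automorphisms

Abstract part of Steinberg's theorem on the automorphisms of the finite Chevalley groups.

* `exists_conj_smul_eq`: every automorphism can be multiplied by an inner one so as to fix `U` and `V`.
* `exists_perm`: an automorphism fixing `U` and `V` permutes the groups `Y i = V ⊓ P i` and the groups
  `X i` in the same way.
-/

set_option autoImplicit false

open scoped Pointwise

namespace Cfsg.Agent.H70.AutFix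

variable {K : Type*} [Group K]

theorem mem_smul_iff (φ : MulAut K) (A : Subgroup K) (g : K) : g ∈ φ • A ↔ φ⁻¹ g ∈ A := by
  rw [Subgroup.mem_pointwise_smul_iff_inv_smul_mem, MulAut.smul_def]

theorem apply_mem_smul_iff (φ : MulAut K) (A : Subgroup K) (g : K) : φ g ∈ φ • A ↔ g ∈ A := by
  rw [mem_smul_iff, MulAut.inv_apply_self]

theorem mem_normalizer_iff_smul (A : Subgroup K) (g : K) :
    g ∈ Subgroup.normalizer (A : Set K) ↔ MulAut.conj g • A = A := by
  rw [Subgroup.mem_normalizer_iff]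
  constructor
  · intro h
    ext x
    rw [mem_smul_iff, ← map_inv, MulAut.conj_apply]
    rw [h]
    simp [mul_assoc]
  · intro h x
    conv_rhs => rw [← h]
    rw [mem_smul_iff, ← map_inv, MulAut.conj_apply]
    simp [mul_assoc]

/-- `φ (g A g⁻¹) = φ(g) φ(A) φ(g)⁻¹` -/
theorem smul_conj_smul (φ : MulAut K) (g : K) (A : Subgroup K) :
    φ • (MulAut.conj g • A) = MulAut.conj (φ g) • (φ • A) := by
  rw [smul_smul, smul_smul]
  congr 1
  apply MulEquiv.ext
  intro x
  simp [MulAut.mul_apply, MulAut.conj_apply]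

theorem conj_mul_smul (a b : K) (A : Subgroup K) :
    MulAut.conj (a * b) • A = MulAut.conj a • (MulAut.conj b • A) := by
  rw [map_mul, mul_smul]

theorem smul_bot' (φ : MulAut K) : φ • (⊥ : Subgroup K) = ⊥ := by
  ext x
  rw [mem_smul_iff, Subgroup.mem_bot, Subgroup.mem_bot]
  constructor
  · intro h
    have := congrArg φ h
    rwa [MulAut.apply_inv_self, map_one] at this
  · rintro rfl
    rw [map_one]

theorem smul_inf' (φ : MulAut K) (A B : Subgroup K) : φ • (A ⊓ B) = φ • A ⊓ φ • B := by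
  ext x
  rw [mem_smul_iff, Subgroup.mem_inf, Subgroup.mem_inf, mem_smul_iff, mem_smul_iff]

theorem smul_inj {φ : MulAut K} {A B : Subgroup K} (h : φ • A = φ • B) : A = B := by
  ext x
  rw [← apply_mem_smul_iff φ A x, h, apply_mem_smul_iff]

theorem smul_normalizer (φ : MulAut K) (A : Subgroup K) :
    φ • Subgroup.normalizer (A : Set K) = Subgroup.normalizer ((φ • A : Subgroup K) : Set K) := by
  ext x
  rw [mem_smul_iff, mem_normalizer_iff_smul, mem_normalizer_iff_smul]
  constructor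
  · intro h
    have h2 := smul_conj_smul φ (φ⁻¹ x) A
    rw [h, MulAut.apply_inv_self] at h2
    exact h2.symm
  · intro h
    have h2 := smul_conj_smul φ (φ⁻¹ x) A
    rw [MulAut.apply_inv_self, h] at h2
    exact smul_inj h2

/-- **Every automorphism of a finite group with a split `(B, N)`-pair fixes, up to an inner automorphism, both `U`
and `V`.** -/
theorem exists_conj_smul_eq [Finite K] {p : ℕ} [Fact p.Prime] (U : Sylow p K) (V N : Subgroup K)
    (hbr : ∀ g : K, ∃ b ∈ Subgroup.normalizer ((U : Subgroup K) : Set K), ∃ n ∈ N,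
      ∃ b' ∈ Subgroup.normalizer ((U : Subgroup K) : Set K), g = b * n * b')
    (hV : ∃ g : K, V = MulAut.conj g • (U : Subgroup K))
    (hUV : (U : Subgroup K) ⊓ V = ⊥)
    (huniq : ∀ n ∈ N, (U : Subgroup K) ⊓ MulAut.conj n • (U : Subgroup K) = ⊥ →
      MulAut.conj n • (U : Subgroup K) = V)
    (θ : MulAut K) :
    ∃ x : K, (MulAut.conj x * θ) • (U : Subgroup K) = U ∧ (MulAut.conj x * θ) • V = V := by
  obtain ⟨x0, hx0⟩ := MulAction.exists_smul_eq K (θ • U) U
  have h1 : (MulAut.conj x0 * θ) • (U : Subgroup K) = U := by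
    have h2 := congrArg (fun S : Sylow p K => (S : Subgroup K)) hx0
    simp only [Sylow.smul_def, Sylow.pointwise_smul_def] at h2
    rw [mul_smul]
    exact h2
  obtain ⟨g, hg⟩ := hV
  set φ : MulAut K := MulAut.conj x0 * θ with hφ
  obtain ⟨b, hb, n, hn, b', hb', e⟩ := hbr (φ g)
  have h2 : φ • V = MulAut.conj b • (MulAut.conj n • (U : Subgroup K)) := by
    rw [hg, smul_conj_smul, h1, e, conj_mul_smul, (mem_normalizer_iff_smul _ _).1 hb', conj_mul_smul]
  have h3 : (U : Subgroup K) ⊓ MulAut.conj n • (U : Subgroup K) = ⊥ := by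
    apply smul_inj (φ := MulAut.conj b)
    rw [smul_inf', smul_bot', (mem_normalizer_iff_smul _ _).1 hb, ← h2]
    have h4 : φ • ((U : Subgroup K) ⊓ V) = φ • (⊥ : Subgroup K) := by rw [hUV]
    rw [smul_inf', smul_bot', h1] at h4
    exact h4
  have h4 := huniq n hn h3
  rw [h4] at h2
  refine ⟨b⁻¹ * x0, ?_, ?_⟩
  · rw [map_mul, mul_assoc, ← hφ, mul_smul, h1]
    exact (mem_normalizer_iff_smul _ _).1 (inv_mem hb)
  · rw [map_mul, mul_assoc, ← hφ, mul_smul, h2, map_inv, inv_smul_smul]

/-- An automorphism fixing `U` and `V` permutes the groups `X i` and `Y i = V ⊓ P i` by the same permutation. -/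
theorem exists_perm {ι : Type*} [Finite ι] (U V : Subgroup K) (n₀ : K)
    (h1 : MulAut.conj n₀ • U = V) (h2 : MulAut.conj n₀ • V = U)
    (P X Y : ι → Subgroup K) (hY : ∀ i, V ⊓ P i = Y i) (hYinj : Function.Injective Y)
    (hnorm : ∀ i, ∀ h ∈ Subgroup.normalizer (U : Set K) ⊓ Subgroup.normalizer (V : Set K), MulAut.conj h • Y i = Y i)
    (ω : ι → ι) (hω : ∀ i, MulAut.conj n₀ • Y i = X (ω i))
    (hcomm : ∀ i j, (∀ x ∈ X i, ∀ y ∈ Y j, x * y = y * x) ↔ i ≠ j)
    (φ : MulAut K) (hU : φ • U = U) (hVφ : φ • V = V)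
    (hP : ∀ i, ∃ j, φ • P i = P j) :
    ∃ π : Equiv.Perm ι, (∀ i, φ • X i = X (π i)) ∧ ∀ i, φ • Y i = Y (π i) := by
  choose π hπ using hP
  have e1 : ∀ i, φ • Y i = Y (π i) := by
    intro i
    rw [← hY, smul_inf', hVφ, hπ, hY]
  have hπinj : Function.Injective π := by
    intro i j h
    have : φ • Y i = φ • Y j := by rw [e1, e1, h]
    exact hYinj (smul_inj this)
  have hωinj : Function.Injective ω := by
    intro i j h
    have : MulAut.conj n₀ • Y i = MulAut.conj n₀ • Y j := by rw [hω, hω, h]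
    exact hYinj (smul_inj this)
  have hωsurj : Function.Surjective ω := Finite.surjective_of_injective hωinj
  -- `φ n₀ ∈ n₀ H`
  have e2 : n₀⁻¹ * φ n₀ ∈ Subgroup.normalizer (U : Set K) ⊓ Subgroup.normalizer (V : Set K) := by
    refine Subgroup.mem_inf.2 ⟨?_, ?_⟩
    · rw [mem_normalizer_iff_smul, conj_mul_smul]
      have h3 := smul_conj_smul φ n₀ U
      rw [h1, hVφ, hU] at h3
      rw [← h3, map_inv, ← h1, inv_smul_smul]
    · rw [mem_normalizer_iff_smul, conj_mul_smul]
      have h3 := smul_conj_smul φ n₀ V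
      rw [h2, hVφ, hU] at h3
      rw [← h3, map_inv, ← h2, inv_smul_smul]
  have e3 : ∀ i, φ • X (ω i) = X (ω (π i)) := by
    intro i
    rw [← hω i, smul_conj_smul, e1]
    have h3 : φ n₀ = n₀ * (n₀⁻¹ * φ n₀) := by group
    rw [h3, conj_mul_smul, hnorm _ _ e2, hω]
  -- the permutation induced on the `X i`
  have e4 : ∀ i, ∃ j, φ • X i = X j := by
    intro i
    obtain ⟨k, rfl⟩ := hωsurj i
    exact ⟨_, e3 k⟩
  choose ρ hρ using e4
  have hcφ : ∀ i j, (∀ x ∈ φ • X i, ∀ y ∈ φ • Y j, x * y = y * x) ↔ (∀ x ∈ X i, ∀ y ∈ Y j, x * y = y * x) := by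
    intro i j
    constructor
    · intro h x hx y hy
      have h3 := h (φ x) ((apply_mem_smul_iff _ _ _).2 hx) (φ y) ((apply_mem_smul_iff _ _ _).2 hy)
      rw [← map_mul, ← map_mul] at h3
      exact φ.injective h3
    · intro h x hx y hy
      have h3 := congrArg φ (h _ ((mem_smul_iff _ _ _).1 hx) _ ((mem_smul_iff _ _ _).1 hy))
      rw [map_mul, map_mul, MulAut.apply_inv_self, MulAut.apply_inv_self] at h3
      exact h3
  have e5 : ∀ i, ρ i = π i := by
    intro i
    by_contra hne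
    have h3 := (hcomm (ρ i) (π i)).2 hne
    rw [← hρ, ← e1, hcφ, hcomm] at h3
    exact h3 rfl
  refine ⟨Equiv.ofBijective π (Finite.injective_iff_bijective.1 hπinj), fun i => ?_, e1⟩
  rw [hρ, e5]
  rfl

end Cfsg.Agent.H70.AutFix
end

-- part: H70/ChevTab
section
/-!
# Finite checks on the tables, for the automorphisms of the Chevalley groups

* `commTerms_opp`: for distinct fundamental roots `p_i`, `p_j` the commutator formula for `(p_i, -p_j)` is empty;
* `commTerms_orth`: the same for `(p_i, p_j)` if `A_{p_i, p_j} = 0`;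
* `exists_longest`: an element `n₀` of `N` which maps every root subgroup `X_s` to `X_{a s}`, `a` exchanging the
  positive and the negative roots, `a² = 1`, and mapping negative fundamental roots to fundamental roots.
-/

set_option autoImplicit false

namespace Cfsg.Agent.H70.ChevTab

open Cfsg.Lie Cfsg.Agent.ChevalleyStructure Cfsg.Agent.ChevalleyStructure.Elts
open Cfsg.Agent.ChevalleyStructure.W0Core Cfsg.Agent.ChevalleyStructure.WeylConj
  Cfsg.Agent.ChevalleyStructure.W0Main Cfsg.Agent.ChevalleyStructure.W0Small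
  Cfsg.Agent.ChevalleyStructure.W0E6 Cfsg.Agent.ChevalleyStructure.W0E7 Cfsg.Agent.ChevalleyStructure.W0E8

universe u

/-- opposite fundamental roots -/
def chkOpp (D : ChevalleyDatum) : Bool :=
  (List.range D.rank).all fun i => (List.range D.rank).all fun j =>
    Nat.beq i j || ((D.commTerms (D.simple i) (D.neg (D.simple j))).isEmpty &&
      !(Nat.beq (D.simple i) (D.simple j)) && !(Nat.beq (D.simple i) (D.neg (D.simple j))))

theorem oppG2 : chkOpp chevG2 = true := by decide +kernel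
theorem oppB2 : chkOpp chevB2 = true := by decide +kernel
theorem oppD4 : chkOpp chevD4 = true := by decide +kernel
theorem oppF4 : chkOpp chevF4 = true := by decide +kernel
theorem oppE6 : chkOpp chevE6 = true := by decide +kernel
theorem oppE7 : chkOpp chevE7 = true := by decide +kernel
theorem oppE8 : chkOpp chevE8 = true := by decide +kernel

theorem chkOpp_of_mem {D : ChevalleyDatum} (hD : InList D) : chkOpp D = true := by
  simp only [InList, List.mem_cons, List.not_mem_nil, or_false] at hD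
  rcases hD with h | h | h | h | h | h | h <;> rw [h]
  · exact oppG2
  · exact oppB2
  · exact oppD4
  · exact oppF4
  · exact oppE6
  · exact oppE7
  · exact oppE8

theorem opp_spec {D : ChevalleyDatum} (hD : InList D) {i j : ℕ} (hi : i < D.rank) (hj : j < D.rank) (hij : i ≠ j) :
    D.commTerms (D.simple i) (D.neg (D.simple j)) = [] ∧ D.simple i ≠ D.simple j ∧
      D.simple i ≠ D.neg (D.simple j) := by
  have h := chkOpp_of_mem hD
  have h1 := List.all_eq_true.1 h i (List.mem_range.2 hi)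
  have h2 := List.all_eq_true.1 h1 j (List.mem_range.2 hj)
  rw [Bool.or_eq_true, Bool.and_eq_true, Bool.and_eq_true] at h2
  rcases h2 with h2 | ⟨⟨h2, h3⟩, h4⟩
  · exact absurd (Nat.eq_of_beq_eq_true h2) hij
  · refine ⟨List.isEmpty_iff.1 h2, ?_, ?_⟩
    · intro e
      rw [e] at h3
      simp at h3
    · intro e
      rw [← e] at h4
      simp at h4

/-- orthogonal fundamental roots -/
def chkOrth (D : ChevalleyDatum) : Bool :=
  (List.range D.rank).all fun i => (List.range D.rank).all fun j =>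
    Nat.beq i j || !(decide (D.cartan i (D.simple j) = 0)) ||
      ((D.commTerms (D.simple i) (D.simple j)).isEmpty && !(Nat.beq (D.simple i) (D.neg (D.simple j))))

theorem orthG2 : chkOrth chevG2 = true := by decide +kernel
theorem orthB2 : chkOrth chevB2 = true := by decide +kernel
theorem orthD4 : chkOrth chevD4 = true := by decide +kernel
theorem orthF4 : chkOrth chevF4 = true := by decide +kernel
theorem orthE6 : chkOrth chevE6 = true := by decide +kernel
theorem orthE7 : chkOrth chevE7 = true := by decide +kernel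
theorem orthE8 : chkOrth chevE8 = true := by decide +kernel

theorem chkOrth_of_mem {D : ChevalleyDatum} (hD : InList D) : chkOrth D = true := by
  simp only [InList, List.mem_cons, List.not_mem_nil, or_false] at hD
  rcases hD with h | h | h | h | h | h | h <;> rw [h]
  · exact orthG2
  · exact orthB2
  · exact orthD4
  · exact orthF4
  · exact orthE6
  · exact orthE7
  · exact orthE8

theorem orth_spec {D : ChevalleyDatum} (hD : InList D) {i j : ℕ} (hi : i < D.rank) (hj : j < D.rank) (hij : i ≠ j)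
    (h0 : D.cartan i (D.simple j) = 0) :
    D.commTerms (D.simple i) (D.simple j) = [] ∧ D.simple i ≠ D.neg (D.simple j) := by
  have h := chkOrth_of_mem hD
  have h1 := List.all_eq_true.1 h i (List.mem_range.2 hi)
  have h2 := List.all_eq_true.1 h1 j (List.mem_range.2 hj)
  rw [Bool.or_eq_true, Bool.or_eq_true, Bool.and_eq_true] at h2
  rcases h2 with (h2 | h2) | ⟨h2, h3⟩
  · exact absurd (Nat.eq_of_beq_eq_true h2) hij
  · rw [h0] at h2
    simp at h2
  · refine ⟨List.isEmpty_iff.1 h2, ?_⟩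
    intro e
    rw [← e] at h3
    simp at h3

/-! ### The longest element -/

/-- the data of the element `n₀` -/
structure Longest {D : ChevalleyDatum} (hD : InList D) (F : Type u) [Field F] (n : GL D.Idx F) (a : ℕ → ℕ) :
    Prop where
  mem : n ∈ D.monomialSubgroup F
  lt : ∀ s < D.nroots, a s < D.nroots
  invol : ∀ s < D.nroots, a (a s) = s
  conj : ∀ s < D.nroots, ∃ η : F, (η = 1 ∨ η = -1) ∧ ∀ t : F, n * xG hD s t * n⁻¹ = xG hD (a s) (η * t)
  pos : ∀ s, D.IsPosRoot s → D.IsNegRoot (a s)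
  neg : ∀ s, D.IsNegRoot s → D.IsPosRoot (a s)
  simple : ∀ i < D.rank, ∃ j < D.rank, a (D.neg (D.simple i)) = D.simple j

theorem longest_of_tables {D : ChevalleyDatum} (hD : InList D) (F : Type u) [Field F]
    (T : ℕ → ℕ) (w : List ℕ) (W m : ℕ) (hm : m ≤ D.nroots)
    (hT : ∀ i < D.rank, ∀ s < D.nroots, D.reflectRoot i s = look (T i) s)
    (hR : ∀ i < D.rank, rangeOK (T i) D.nroots = true)
    (hw : ∀ i ∈ w, i < D.rank) (hw' : ∀ i ∈ w, D.simple i < D.nroots)
    (hW : wordOK T w W D.nroots = true) (hf : flipOK W m D.nroots = true) (hs : signOK D m = true)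
    (hsi : ∀ i < D.rank, D.simple i < D.nroots ∧ ∃ j < D.rank, look W (D.neg (D.simple i)) = D.simple j) :
    ∃ n a, Longest hD F n a := by
  have key : ∀ s < D.nroots, actW D w s = look W s := fun s h =>
    ((actW_eq hT hR w hw h).1).trans (wordOK_spec hW h)
  have hlt : ∀ i < D.rank, ∀ s < D.nroots, D.reflectRoot i s < D.nroots := by
    intro i hi s h
    rw [hT i hi s h]
    exact rangeOK_spec (hR i hi) h
  refine ⟨nW hD F w, actW D w, nW_mem_monomial hD F hw', ?_, ?_, ?_, ?_, ?_, ?_⟩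
  · intro s h
    exact (nW_conj hD F hlt w hw h).1
  · intro s h
    obtain ⟨h1, h2, h3⟩ := flipOK_spec hf h
    rw [key s h, key _ h2, h3]
  · intro s h
    obtain ⟨-, η, hη, h2⟩ := nW_conj hD F hlt w hw h
    refine ⟨(η : F), ?_, h2⟩
    rcases hη with rfl | rfl
    · left; simp
    · right; simp
  · intro s h
    rw [pos_iff hs] at h
    obtain ⟨h1, h2, h3⟩ := flipOK_spec hf h.2
    rw [key s h.2, neg_iff hs hm]
    exact h1.1 h.1
  · intro s h
    rw [neg_iff hs hm] at h
    have hlt := h.trans_le hm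
    obtain ⟨h1, h2, h3⟩ := flipOK_spec hf hlt
    rw [key s hlt]
    refine (pos_iff hs _).2 ⟨?_, h2⟩
    by_contra h'
    exact absurd (h1.2 (not_le.1 h')) (not_le.2 h)
  · intro i hi
    obtain ⟨h1, j, hj, h2⟩ := hsi i hi
    exact ⟨j, hj, (key _ (Reach.neg_lt hD h1)).trans h2⟩

/-- the check on the negatives of the fundamental roots -/
def chkSimple (D : ChevalleyDatum) (W : ℕ) : Bool :=
  (List.range D.rank).all fun i => Nat.blt (D.simple i) D.nroots &&
    (List.range D.rank).any fun j => Nat.beq (look W (D.neg (D.simple i))) (D.simple j)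

theorem chkSimple_spec {D : ChevalleyDatum} {W : ℕ} (h : chkSimple D W = true) :
    ∀ i < D.rank, D.simple i < D.nroots ∧ ∃ j < D.rank, look W (D.neg (D.simple i)) = D.simple j := by
  intro i hi
  have h1 := List.all_eq_true.1 h i (List.mem_range.2 hi)
  rw [Bool.and_eq_true] at h1
  obtain ⟨h1, h2⟩ := h1
  obtain ⟨j, hj, h3⟩ := List.any_eq_true.1 h2
  exact ⟨Nat.le_of_ble_eq_true h1, j, List.mem_range.1 hj, Nat.eq_of_beq_eq_true h3⟩

/-- **The longest element.** -/
theorem exists_longest {D : ChevalleyDatum} (hD : InList D) (F : Type u) [Field F] :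
    ∃ n a, Longest hD F n a := by
  have hD' := hD
  simp only [InList, List.mem_cons, List.not_mem_nil, or_false] at hD'
  rcases hD' with rfl | rfl | rfl | rfl | rfl | rfl | rfl
  · exact longest_of_tables hD F tabG2 wordG2 w0G2 6 (by decide) tabG2_ok rangeG2 wordG2_lt wordG2_simple
      wordG2_ok flipG2 signG2 (chkSimple_spec (by decide +kernel))
  · exact longest_of_tables hD F tabB2 wordB2 w0B2 4 (by decide) tabB2_ok rangeB2 wordB2_lt wordB2_simple
      wordB2_ok flipB2 signB2 (chkSimple_spec (by decide +kernel))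
  · exact longest_of_tables hD F tabD4 wordD4 w0D4 12 (by decide) tabD4_ok rangeD4 wordD4_lt wordD4_simple
      wordD4_ok flipD4 signD4 (chkSimple_spec (by decide +kernel))
  · exact longest_of_tables hD F tabF4 wordF4 w0F4 24 (by decide) tabF4_ok rangeF4 wordF4_lt wordF4_simple
      wordF4_ok flipF4 signF4 (chkSimple_spec (by decide +kernel))
  · exact longest_of_tables hD F tabE6 wordE6 w0E6 36 (by decide) tabE6_ok rangeE6 wordE6_lt wordE6_simple
      wordE6_ok flipE6 signE6 (chkSimple_spec (by decide +kernel))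
  · exact longest_of_tables hD F tabE7 wordE7 w0E7 63 (by decide) tabE7_ok rangeE7 wordE7_lt wordE7_simple
      wordE7_ok flipE7 signE7 (chkSimple_spec (by decide +kernel))
  · exact longest_of_tables hD F tabE8 wordE8 w0E8 120 (by decide) tabE8_ok rangeE8 wordE8_lt wordE8_simple
      wordE8_ok flipE8 signE8 (chkSimple_spec (by decide +kernel))

end Cfsg.Agent.H70.ChevTab
end

-- part: H70/ChevFix
section
/-!
# Automorphisms of the finite Chevalley groups, modulo inner automorphisms

Steinberg's theorem, first part (`exists_conj_perm`): an automorphism of the Chevalley group `D.group F`, `F` finite,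
can be multiplied by an inner automorphism so that it fixes `U` and `V` and maps `X_{p_i}` to `X_{p_{π i}}` and
`X_{-p_i}` to `X_{-p_{π i}}` for a permutation `π` of the nodes of the Dynkin diagram.
-/

set_option autoImplicit false

namespace Cfsg.Agent.H70.ChevFix

open scoped Pointwise
open Cfsg Cfsg.Lie Cfsg.Agent.ChevalleyStructure Cfsg.Agent.ChevalleyStructure.Elts
  Cfsg.Agent.ChevalleyStructure.NConj Cfsg.Agent.ChevalleyStructure.BNChev Cfsg.Agent.S1042
  Cfsg.Agent.Schreier.ChevLocal Cfsg.Agent.H70.AutFix Cfsg.Agent.H70.ChevTab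

universe u

variable {D : ChevalleyDatum} (hD : InList D) (F : Type u) [Field F]

/-- `V` as a subgroup of the Chevalley group. -/
abbrev VN (D : ChevalleyDatum) (F : Type u) [Field F] : Subgroup ↥(D.group F) :=
  (D.negUnipotent F).subgroupOf (D.group F)

/-- `N` as a subgroup of the Chevalley group. -/
abbrev NN (D : ChevalleyDatum) (F : Type u) [Field F] : Subgroup ↥(D.group F) :=
  (D.monomialSubgroup F).subgroupOf (D.group F)

/-- The root subgroup `X_r` as a subgroup of the Chevalley group. -/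
abbrev XX (D : ChevalleyDatum) (F : Type u) [Field F] (r : ℕ) : Subgroup ↥(D.group F) :=
  (D.rootSubgroup F r).subgroupOf (D.group F)

variable {F}

/-- `x_r(t)` as an element of the Chevalley group. -/
def xe (r : ℕ) (t : F) : ↥(D.group F) := ⟨xG hD r t, xG_mem_group hD r t⟩

@[simp] theorem coe_xe (r : ℕ) (t : F) : ((xe hD r t : ↥(D.group F)) : GL D.Idx F) = xG hD r t := rfl

theorem mem_XX {r : ℕ} {g : ↥(D.group F)} : g ∈ XX D F r ↔ ∃ t : F, g = xe hD r t := by
  rw [Subgroup.mem_subgroupOf, mem_rootSubgroup_iff hD]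
  exact ⟨fun ⟨t, ht⟩ => ⟨t, Subtype.ext ht⟩, fun ⟨t, ht⟩ => ⟨t, congrArg Subtype.val ht⟩⟩

theorem xe_mem_XX (r : ℕ) (t : F) : xe hD r t ∈ XX D F r := (mem_XX hD).2 ⟨t, rfl⟩

theorem xe_add (r : ℕ) (s t : F) : xe hD r (s + t) = xe hD r s * xe hD r t := Subtype.ext (xG_add hD r s t).symm

theorem xe_zero (r : ℕ) : xe hD r (0 : F) = 1 := Subtype.ext (xG_zero hD r)

theorem xe_neg (r : ℕ) (t : F) : xe hD r (-t) = (xe hD r t)⁻¹ := Subtype.ext (xG_inv hD r t).symm

theorem xe_inj {r : ℕ} (hr : r < D.nroots) {s t : F} (h : xe hD r s = xe hD r t) : s = t :=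
  xG_injective hD hr (congrArg Subtype.val h)

theorem xe_eq_one {r : ℕ} (hr : r < D.nroots) {t : F} (h : xe hD r t = 1) : t = 0 :=
  (xG_eq_one_iff hD hr t).1 (congrArg Subtype.val h)

/-- conjugation of a subgroup of the Chevalley group -/
theorem mem_conj_smul_subgroupOf {A : Subgroup (GL D.Idx F)} (n g : ↥(D.group F)) :
    g ∈ MulAut.conj n • A.subgroupOf (D.group F) ↔
      (n : GL D.Idx F)⁻¹ * (g : GL D.Idx F) * (n : GL D.Idx F) ∈ A := by
  rw [mem_smul_iff, ← map_inv, MulAut.conj_apply, inv_inv, Subgroup.mem_subgroupOf]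
  rfl

theorem neg_simple_lt (hD : InList D) {i : ℕ} (hi : i < D.rank) : D.neg (D.simple i) < D.nroots :=
  Reach.neg_lt hD (simple_lt hD hi)

theorem neg_neg_simple (hD : InList D) {i : ℕ} (hi : i < D.rank) : D.neg (D.neg (D.simple i)) = D.simple i :=
  Reach.neg_neg hD (simple_lt hD hi)

/-! ### `B` is the normaliser of `U` -/

/-- The (B,N)-pair. -/
noncomputable abbrev PP (F : Type u) [Field F] : BNPair ↥(D.group F) := (rootData hD F).bnPair

theorem PP_B : (PP hD F).B = BB D F := sup_subgroupOf hD F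

theorem PP_S : (PP hD F).S = Set.range (nn hD F) := rfl

theorem normalizer_UU (hD : InList D) : Subgroup.normalizer ((UU D F : Subgroup ↥(D.group F)) : Set ↥(D.group F)) = BB D F := by
  have h := Schreier.BNSch.normalizer_eq (PP hD F) (UU D F) ?_ ?_ ?_
  · rw [h, PP_B]
  · rw [PP_B]; exact UU_le F
  · rw [PP_B]
    intro b hb u hu
    exact Schreier.ChevSch.conj_mem_UU F hD hb hu
  · rw [PP_B, PP_S]
    rintro _ ⟨i, rfl⟩
    refine ⟨xe hD (D.simple i) 1, xG_mem_posUnipotent hD (simple_pos hD i.2) 1, ?_⟩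
    intro h
    have h1 : (nS hD F i)⁻¹ * xG hD (D.simple i) (1 : F) * nS hD F i ∈ D.borelSubgroup F := h
    obtain ⟨u, hu⟩ := conj_inv_simple (F := F) hD i.2 1
    rw [hu] at h1
    have hu0 : u = 0 := by
      by_contra hu0
      exact neg_not_mem_borel hD i.2 hu0 h1
    rw [hu0, xG_zero] at hu
    have h3 : xG hD (D.simple i) (1 : F) =
        nS hD F i * ((nS hD F i)⁻¹ * xG hD (D.simple i) 1 * nS hD F i) * (nS hD F i)⁻¹ := by group
    rw [hu, mul_one, mul_inv_cancel] at h3
    exact one_ne_zero ((xG_eq_one_iff hD (simple_lt hD i.2) 1).1 h3)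

/-- `U` is a Sylow subgroup. -/
theorem exists_sylow (hD : InList D) [Finite F] {p : ℕ} [Fact p.Prime] [CharP F p] :
    ∃ S : Sylow p ↥(D.group F), (S : Subgroup ↥(D.group F)) = UU D F := by
  classical
  have := Fintype.ofFinite F
  have hfin : Finite (GL D.Idx F) := inferInstance
  have hfinG : Finite ↥(D.group F) := inferInstance
  refine Schreier.BNUse.exists_sylow (UU D F) (Schreier.ChevSch.isPGroup_UU F hD) ?_
  rw [normalizer_UU hD]
  intro h
  have hUB : UU D F ≤ BB D F := UU_le F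
  have hn : ((UU D F).subgroupOf (BB D F)).Normal := by
    constructor
    intro u hu b
    rw [Subgroup.mem_subgroupOf] at hu ⊢
    exact Schreier.ChevSch.conj_mem_UU F hD b.2 hu
  have h1 : p ∣ Nat.card (↥(BB D F) ⧸ (UU D F).subgroupOf (BB D F)) := h
  obtain ⟨x, hx⟩ := exists_prime_orderOf_dvd_card' p h1
  have hp : ¬ p ∣ (Fintype.card F - 1) ^ D.rank := by
    intro h2
    have h3 := (Fact.out : p.Prime).dvd_of_dvd_pow h2
    obtain ⟨n, -, hn⟩ := FiniteField.card F p
    have h4 : p ∣ Fintype.card F := by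
      rw [hn]; exact dvd_pow_self p n.ne_zero
    have h5 : 0 < Fintype.card F := Fintype.card_pos
    have h6 := (Nat.dvd_sub h4 h3)
    rw [Nat.sub_sub_self h5] at h6
    exact (Fact.out : p.Prime).one_lt.ne' (Nat.dvd_one.1 h6)
  induction x using QuotientGroup.induction_on with
  | H b =>
    obtain ⟨u, hu, h', hh', e⟩ := Schreier.ChevSch.exists_mul F hD b.2
    have h2 : h' ∈ BB D F := Subgroup.mem_sup_right hh'
    have h3 : (QuotientGroup.mk b : ↥(BB D F) ⧸ (UU D F).subgroupOf (BB D F)) =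
        QuotientGroup.mk (⟨h', h2⟩ : BB D F) := by
      rw [QuotientGroup.eq, Subgroup.mem_subgroupOf]
      show (b : ↥(D.group F))⁻¹ * h' ∈ UU D F
      rw [e]
      have h4 : (u * h')⁻¹ * h' = h'⁻¹ * u⁻¹ * h' := by group
      rw [h4]
      have h5 := Schreier.ChevSch.conj_mem_UU F hD (inv_mem h2) (inv_mem hu)
      rwa [inv_inv] at h5
    have h4 : (QuotientGroup.mk b : ↥(BB D F) ⧸ (UU D F).subgroupOf (BB D F)) ^ ((Fintype.card F - 1) ^ D.rank) = 1 := by
      rw [h3, ← QuotientGroup.mk_pow]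
      have h5 : (⟨h', h2⟩ : BB D F) ^ ((Fintype.card F - 1) ^ D.rank) = 1 := by
        apply Subtype.ext
        exact Schreier.ChevSch.pow_eq_one F hD hh'
      rw [h5]
      rfl
    exact hp (hx ▸ orderOf_dvd_of_pow_eq_one h4)

/-! ### The Bruhat decomposition -/

theorem bruhat (hD : InList D) (g : ↥(D.group F)) :
    ∃ b ∈ BB D F, ∃ n ∈ NN D F, ∃ b' ∈ BB D F, g = b * n * b' := by
  obtain ⟨b, hb, n, hn, u, hu, e⟩ := (S1100.result (F := F) D hD).1 g g.2
  have hle : Subgroup.closure {x : GL D.Idx F | ∃ (r : ℕ) (t : F), D.IsPosRoot r ∧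
      (D.rootSubgroup F r).map (MulAut.conj n).toMonoidHom ≤ D.negUnipotent F ∧
        (x : Matrix D.Idx D.Idx F) = D.x F r t} ≤ D.posUnipotent F := by
    refine (Subgroup.closure_le _).2 ?_
    rintro x ⟨r, t, h1, -, h2⟩
    exact Subgroup.subset_closure ⟨r, t, h1, h2⟩
  have hB : D.borelSubgroup F ≤ D.group F := sup_le (posUnipotent_le_group hD F) (diagonal_le_group hD F)
  have hu' := hle hu
  exact ⟨⟨b, hB hb⟩, hb, ⟨n, monomial_le_group hD F hn⟩, hn, ⟨u, posUnipotent_le_group hD F hu'⟩,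
    Subgroup.mem_sup_left hu', Subtype.ext e⟩

theorem UU_inf_VN (hD : InList D) : UU D F ⊓ VN D F = ⊥ := by
  rw [eq_bot_iff]
  rintro g ⟨h1, h2⟩
  rw [Subgroup.mem_bot]
  exact Subtype.ext (one_of_mem_borel_of_mem_neg (Subgroup.mem_sup_left h1) h2 hD)

/-! ### `V` is the only `N`-conjugate of `U` meeting `U` trivially -/

theorem uniq (hD : InList D) [Finite F] {n : ↥(D.group F)} (hn : n ∈ NN D F)
    (hV : Nat.card (VN D F) = Nat.card (UU D F))
    (h : UU D F ⊓ MulAut.conj n • UU D F = ⊥) : MulAut.conj n • UU D F = VN D F := by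
  have hfin : Finite (GL D.Idx F) := inferInstance
  have hfinG : Finite ↥(D.group F) := inferInstance
  have hle : MulAut.conj n • UU D F ≤ VN D F := by
    have h1 : D.posUnipotent F ≤ (D.negUnipotent F).comap (MulAut.conj (n : GL D.Idx F)).toMonoidHom := by
      rw [posUnipotent_le_iff hD]
      intro r hr t
      have e1 := NPerm.conj_permHom hD ⟨(n : GL D.Idx F), hn⟩ ⟨r, hr.1⟩
      set s : Fin D.nroots := NPerm.permHom hD F ⟨(n : GL D.Idx F), hn⟩ ⟨r, hr.1⟩ with hs
      have e2 : ∀ t : F, (n : GL D.Idx F) * xG hD r t * (n : GL D.Idx F)⁻¹ ∈ D.rootSubgroup F s := by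
        intro t
        rw [← e1]
        exact ⟨xG hD r t, xG_mem_rootSubgroup hD r t, rfl⟩
      have hG := RootComb.good_of_mem hD
      by_cases hneg : D.IsNegRoot s
      · show (n : GL D.Idx F) * xG hD r t * (n : GL D.Idx F)⁻¹ ∈ D.negUnipotent F
        obtain ⟨v, hv⟩ := (mem_rootSubgroup_iff hD _ _).1 (e2 t)
        rw [hv]
        exact xG_mem_negUnipotent hD hneg v
      · exfalso
        have hpos : D.IsPosRoot s := by
          rw [hG.isNegRoot_iff] at hneg
          rw [hG.isPosRoot_iff]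
          exact ⟨not_lt.1 hneg, s.2⟩
        obtain ⟨v, hv⟩ := (mem_rootSubgroup_iff hD _ _).1 (e2 1)
        have h2 : n * xe hD r 1 * n⁻¹ ∈ UU D F ⊓ MulAut.conj n • UU D F := by
          refine Subgroup.mem_inf.2 ⟨?_, ?_⟩
          · show (n : GL D.Idx F) * xG hD r 1 * (n : GL D.Idx F)⁻¹ ∈ D.posUnipotent F
            rw [hv]
            exact xG_mem_posUnipotent hD hpos v
          · have h3 : n * xe hD r 1 * n⁻¹ = MulAut.conj n (xe hD r 1) := rfl
            rw [h3, apply_mem_smul_iff]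
            exact xG_mem_posUnipotent hD hr 1
        rw [h, Subgroup.mem_bot, mul_inv_eq_one] at h2
        have h3 : xe hD r (1 : F) = 1 := by
          have := mul_left_cancel (h2.trans (mul_one n).symm)
          exact this
        exact one_ne_zero (xe_eq_one hD hr.1 h3)
    intro g hg
    rw [mem_conj_smul_subgroupOf] at hg
    have h2 := h1 hg
    have h3 : (n : GL D.Idx F) * ((n : GL D.Idx F)⁻¹ * (g : GL D.Idx F) * (n : GL D.Idx F)) * (n : GL D.Idx F)⁻¹ ∈
        D.negUnipotent F := h2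
    have h4 : (n : GL D.Idx F) * ((n : GL D.Idx F)⁻¹ * (g : GL D.Idx F) * (n : GL D.Idx F)) * (n : GL D.Idx F)⁻¹ =
        (g : GL D.Idx F) := by group
    rwa [h4] at h3
  refine Subgroup.eq_of_le_of_card_ge hle ?_
  rw [hV]
  exact le_of_eq (Nat.card_congr (Subgroup.equivSMul (MulAut.conj n) (UU D F)).toEquiv)

/-! ### The longest element -/

theorem exists_n0 (hD : InList D) (F : Type u) [Field F] :
    ∃ n₀ ∈ NN D F, MulAut.conj n₀ • UU D F = VN D F ∧ MulAut.conj n₀ • VN D F = UU D F ∧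
      ∃ ω : Fin D.rank → Fin D.rank, ∀ i : Fin D.rank, MulAut.conj n₀ • XX D F (D.neg (D.simple i)) = XX D F (D.simple (ω i)) := by
  obtain ⟨n, a, L⟩ := exists_longest hD F
  have conj' : ∀ s < D.nroots, ∃ η : F, (η = 1 ∨ η = -1) ∧ ∀ t : F, n⁻¹ * xG hD s t * n = xG hD (a s) (η * t) := by
    intro s hs
    obtain ⟨η, hη, h⟩ := L.conj (a s) (L.lt s hs)
    rw [L.invol s hs] at h
    refine ⟨η, hη, fun t => ?_⟩
    have h1 := h (η * t)
    rw [← mul_assoc, sign_mul_self hη, one_mul] at h1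
    rw [← h1]
    group
  refine ⟨⟨n, monomial_le_group hD F L.mem⟩, L.mem, ?_, ?_, ?_⟩
  · have h1 : D.posUnipotent F ≤ (D.negUnipotent F).comap (MulAut.conj n).toMonoidHom := by
      rw [posUnipotent_le_iff hD]
      intro r hr t
      obtain ⟨η, -, h⟩ := L.conj r hr.1
      show n * xG hD r t * n⁻¹ ∈ D.negUnipotent F
      rw [h]
      exact xG_mem_negUnipotent hD (L.pos r hr) _
    have h2 : D.negUnipotent F ≤ (D.posUnipotent F).comap (MulAut.conj n⁻¹).toMonoidHom := by
      rw [negUnipotent_le_iff hD]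
      intro r hr t
      obtain ⟨η, -, h⟩ := conj' r hr.1
      show n⁻¹ * xG hD r t * n⁻¹⁻¹ ∈ D.posUnipotent F
      rw [inv_inv, h]
      exact xG_mem_posUnipotent hD (L.neg r hr) _
    apply le_antisymm
    · intro g hg
      rw [mem_conj_smul_subgroupOf] at hg
      have h3 : n * (n⁻¹ * (g : GL D.Idx F) * n) * n⁻¹ ∈ D.negUnipotent F := h1 hg
      have h4 : n * (n⁻¹ * (g : GL D.Idx F) * n) * n⁻¹ = (g : GL D.Idx F) := by group
      rwa [h4] at h3
    · intro g hg
      rw [mem_conj_smul_subgroupOf]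
      have h3 : n⁻¹ * (g : GL D.Idx F) * n⁻¹⁻¹ ∈ D.posUnipotent F := h2 hg
      rwa [inv_inv] at h3
  · have h1 : D.negUnipotent F ≤ (D.posUnipotent F).comap (MulAut.conj n).toMonoidHom := by
      rw [negUnipotent_le_iff hD]
      intro r hr t
      obtain ⟨η, -, h⟩ := L.conj r hr.1
      show n * xG hD r t * n⁻¹ ∈ D.posUnipotent F
      rw [h]
      exact xG_mem_posUnipotent hD (L.neg r hr) _
    have h2 : D.posUnipotent F ≤ (D.negUnipotent F).comap (MulAut.conj n⁻¹).toMonoidHom := by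
      rw [posUnipotent_le_iff hD]
      intro r hr t
      obtain ⟨η, -, h⟩ := conj' r hr.1
      show n⁻¹ * xG hD r t * n⁻¹⁻¹ ∈ D.negUnipotent F
      rw [inv_inv, h]
      exact xG_mem_negUnipotent hD (L.pos r hr) _
    apply le_antisymm
    · intro g hg
      rw [mem_conj_smul_subgroupOf] at hg
      have h3 : n * (n⁻¹ * (g : GL D.Idx F) * n) * n⁻¹ ∈ D.posUnipotent F := h1 hg
      have h4 : n * (n⁻¹ * (g : GL D.Idx F) * n) * n⁻¹ = (g : GL D.Idx F) := by group
      rwa [h4] at h3
    · intro g hg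
      rw [mem_conj_smul_subgroupOf]
      have h3 : n⁻¹ * (g : GL D.Idx F) * n⁻¹⁻¹ ∈ D.negUnipotent F := h2 hg
      rwa [inv_inv] at h3
  · have h1 : ∀ i : Fin D.rank, ∃ j : Fin D.rank, a (D.neg (D.simple i)) = D.simple j := by
      intro i
      obtain ⟨j, hj, h⟩ := L.simple i i.2
      exact ⟨⟨j, hj⟩, h⟩
    choose ω hω using h1
    refine ⟨ω, fun i => ?_⟩
    rw [← hω]
    have hlt := neg_simple_lt hD i.2
    apply le_antisymm
    · intro g hg
      rw [mem_conj_smul_subgroupOf, mem_rootSubgroup_iff hD] at hg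
      obtain ⟨t, ht⟩ := hg
      obtain ⟨η, -, h⟩ := L.conj _ hlt
      rw [Subgroup.mem_subgroupOf, mem_rootSubgroup_iff hD]
      refine ⟨η * t, ?_⟩
      rw [← h t, ← ht]
      show (g : GL D.Idx F) = n * (n⁻¹ * (g : GL D.Idx F) * n) * n⁻¹
      group
    · intro g hg
      rw [Subgroup.mem_subgroupOf, mem_rootSubgroup_iff hD] at hg
      obtain ⟨t, ht⟩ := hg
      rw [mem_conj_smul_subgroupOf, mem_rootSubgroup_iff hD]
      obtain ⟨η, -, h⟩ := conj' _ (L.lt _ hlt)
      rw [L.invol _ hlt] at h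
      refine ⟨η * t, ?_⟩
      rw [← h t, ht]

theorem card_VN (hD : InList D) (F : Type u) [Field F] : Nat.card (VN D F) = Nat.card (UU D F) := by
  obtain ⟨n, -, h, -⟩ := exists_n0 hD F
  rw [← h]
  exact (Nat.card_congr (Subgroup.equivSMul (MulAut.conj n) (UU D F)).toEquiv).symm

/-! ### `H = N(U) ∩ N(V)` -/

theorem normalizer_VN (hD : InList D) :
    Subgroup.normalizer ((VN D F : Subgroup ↥(D.group F)) : Set ↥(D.group F)) =
      (D.negUnipotent F ⊔ D.diagonalSubgroup F).subgroupOf (D.group F) := by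
  obtain ⟨n₀, hn, h1, h2, -⟩ := exists_n0 hD F
  have hH : ∀ g : ↥(D.group F), g ∈ HH D F → n₀ * g * n₀⁻¹ ∈ HH D F := fun g hg => conj_mem_diagonal hD hn hg
  have hH' : ∀ g : ↥(D.group F), g ∈ HH D F → n₀⁻¹ * g * n₀ ∈ HH D F := fun g hg => by
    have := conj_mem_diagonal hD (m := (n₀ : GL D.Idx F)⁻¹) (inv_mem hn) hg
    rw [inv_inv] at this
    exact this
  have hsup : (D.negUnipotent F ⊔ D.diagonalSubgroup F).subgroupOf (D.group F) = VN D F ⊔ HH D F :=
    Subgroup.subgroupOf_sup (negUnipotent_le_group hD F) (diagonal_le_group hD F)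
  have hsup' : BB D F = UU D F ⊔ HH D F :=
    Subgroup.subgroupOf_sup (posUnipotent_le_group hD F) (diagonal_le_group hD F)
  have hHc : MulAut.conj n₀ • HH D F = HH D F := by
    apply le_antisymm
    · intro g hg
      rw [mem_smul_iff, ← map_inv, MulAut.conj_apply, inv_inv] at hg
      have := hH _ hg
      have e : n₀ * (n₀⁻¹ * g * n₀) * n₀⁻¹ = g := by group
      rwa [e] at this
    · intro g hg
      rw [mem_smul_iff, ← map_inv, MulAut.conj_apply, inv_inv]
      exact hH' _ hg
  rw [← h1, ← smul_normalizer, normalizer_UU hD, hsup, hsup', Subgroup.smul_sup, h1, hHc]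

theorem normalizer_inf (hD : InList D) :
    Subgroup.normalizer ((UU D F : Subgroup ↥(D.group F)) : Set ↥(D.group F)) ⊓
      Subgroup.normalizer ((VN D F : Subgroup ↥(D.group F)) : Set ↥(D.group F)) = HH D F := by
  rw [normalizer_UU hD, normalizer_VN hD]
  have h := (S1037.result (F := F) D hD).2
  ext g
  rw [Subgroup.mem_inf, Subgroup.mem_subgroupOf, Subgroup.mem_subgroupOf, Subgroup.mem_subgroupOf, ← Subgroup.mem_inf, h]

/-- `H` normalises the root subgroups. -/
theorem conj_XX (hD : InList D) {h : ↥(D.group F)} (hh : h ∈ HH D F) {r : ℕ} (hr : r < D.nroots) :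
    MulAut.conj h • XX D F r = XX D F r := by
  apply le_antisymm
  · intro g hg
    rw [mem_smul_iff, mem_XX hD] at hg
    obtain ⟨t, ht⟩ := hg
    obtain ⟨c, hc, h1⟩ := diagonal_conj hD hh hr
    rw [mem_XX hD]
    refine ⟨c * t, Subtype.ext ?_⟩
    rw [coe_xe, ← h1 t]
    have h2 := congrArg (MulAut.conj h) ht
    rw [MulAut.apply_inv_self] at h2
    rw [h2]
    rfl
  · intro g hg
    rw [mem_XX hD] at hg
    obtain ⟨t, rfl⟩ := hg
    obtain ⟨c, hc, h1⟩ := diagonal_conj hD (inv_mem hh) hr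
    rw [mem_smul_iff, mem_XX hD, ← map_inv, MulAut.conj_apply]
    exact ⟨c * t, Subtype.ext (h1 t)⟩

/-! ### The minimal parabolic subgroups -/

/-- the minimal parabolic subgroup -/
noncomputable abbrev Pi (F : Type u) [Field F] (i : Fin D.rank) : Subgroup ↥(D.group F) :=
  (PP hD F).parabolic {nn hD F i}

theorem nn_injective : Function.Injective (nn hD F) := by
  intro i j h
  have h1 : nS hD F i = nS hD F j := congrArg Subtype.val h
  apply Fin.ext
  refine eq_of_inv_mul_mem (F := F) hD i.2 j.2 ?_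
  rw [h1, inv_mul_cancel]
  exact one_mem _

theorem xe_neg_mem_Pi (i : Fin D.rank) (t : F) : xe hD (D.neg (D.simple i)) t ∈ Pi hD F i := by
  have hB : (PP hD F).B ≤ Pi hD F i := le_sup_left
  have hn : nn hD F i ∈ Pi hD F i :=
    (le_sup_right : Subgroup.closure {nn hD F i} ≤ Pi hD F i) (Subgroup.subset_closure rfl)
  obtain ⟨η, hη, h1⟩ := conj_simple (F := F) hD i.2 (0 : F)
  obtain ⟨η, hη, h1, -⟩ := conj_x (F := F) hD i.2 (simple_lt hD i.2)
  have h2 : D.reflectRoot i (D.simple i) = D.neg (D.simple i) := if_pos rfl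
  rw [h2] at h1
  have h3 : xe hD (D.neg (D.simple i)) t = nn hD F i * xe hD (D.simple i) (η * t) * (nn hD F i)⁻¹ := by
    apply Subtype.ext
    show xG hD (D.neg (D.simple i)) t = nS hD F i * xG hD (D.simple i) (η * t) * (nS hD F i)⁻¹
    rw [h1, ← mul_assoc, sign_mul_self hη, one_mul]
  rw [h3]
  refine mul_mem (mul_mem hn (hB ?_)) (inv_mem hn)
  rw [PP_B]
  exact Subgroup.mem_sup_left (xG_mem_posUnipotent hD (simple_pos hD i.2) _)

/-- `n_p ∉ B V`. -/
theorem nn_ne (i : Fin D.rank) {b v : ↥(D.group F)} (hb : b ∈ BB D F) (hv : v ∈ VN D F) : v ≠ b * nn hD F i := by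
  intro e
  obtain ⟨n₀, hn, h1, h2, -⟩ := exists_n0 hD F
  -- `v = n₀ u n₀⁻¹`
  rw [← h1, mem_smul_iff, ← map_inv, MulAut.conj_apply, inv_inv] at hv
  set u := n₀⁻¹ * v * n₀ with hu
  have hmap : (D.posUnipotent F).map (MulAut.conj (n₀ : GL D.Idx F)).toMonoidHom ≤ D.negUnipotent F := by
    rintro _ ⟨w, hw, rfl⟩
    have h3 : (⟨w, posUnipotent_le_group hD F hw⟩ : ↥(D.group F)) ∈ UU D F := hw
    have h4 := (apply_mem_smul_iff (MulAut.conj n₀) (UU D F) _).2 h3
    rw [h1] at h4
    exact h4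
  have hsub : ∀ w ∈ D.posUnipotent F, w ∈ Subgroup.closure {x : GL D.Idx F | ∃ (r : ℕ) (t : F), D.IsPosRoot r ∧
      (D.rootSubgroup F r).map (MulAut.conj (n₀ : GL D.Idx F)).toMonoidHom ≤ D.negUnipotent F ∧
        (x : Matrix D.Idx D.Idx F) = D.x F r t} := by
    intro w hw
    have hle : D.posUnipotent F ≤ Subgroup.closure {x : GL D.Idx F | ∃ (r : ℕ) (t : F), D.IsPosRoot r ∧
      (D.rootSubgroup F r).map (MulAut.conj (n₀ : GL D.Idx F)).toMonoidHom ≤ D.negUnipotent F ∧
        (x : Matrix D.Idx D.Idx F) = D.x F r t} := by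
      rw [posUnipotent_le_iff hD]
      intro r hr t
      refine Subgroup.subset_closure ⟨r, t, hr, ?_, rfl⟩
      refine le_trans (Subgroup.map_mono ?_) hmap
      intro x hx
      obtain ⟨s, rfl⟩ := (mem_rootSubgroup_iff hD _ _).1 hx
      exact xG_mem_posUnipotent hD hr s
    exact hle hw
  have h3 := (S1100.result (F := F) D hD).2 1 (b : GL D.Idx F) (n₀ : GL D.Idx F) (nS hD F i * n₀) (u : GL D.Idx F) 1
    (one_mem _) hb hn (mul_mem (nG_one_mem_monomial hD (simple_lt hD i.2)) hn) (hsub _ hv) (one_mem _) ?_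
  · have h4 : (n₀ : GL D.Idx F)⁻¹ * (nS hD F i * n₀) ∈ D.diagonalSubgroup F := h3.1
    have h5 := conj_mem_diagonal hD (m := (n₀ : GL D.Idx F)) hn h4
    have h6 : (n₀ : GL D.Idx F) * ((n₀ : GL D.Idx F)⁻¹ * (nS hD F i * n₀)) * (n₀ : GL D.Idx F)⁻¹ = nS hD F i := by group
    rw [h6] at h5
    apply Schreier.BNSch.not_mem_B (PP hD F) (s := nn hD F i) ⟨i, rfl⟩
    rw [PP_B]
    exact Subgroup.mem_sup_right h5
  · have h4 : (v : GL D.Idx F) = (b : GL D.Idx F) * nS hD F i := congrArg Subtype.val e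
    rw [one_mul, mul_one]
    show (n₀ : GL D.Idx F) * ((n₀ : GL D.Idx F)⁻¹ * (v : GL D.Idx F) * n₀) = b * (nS hD F i * n₀)
    rw [h4]
    group

theorem VN_inf_Pi (i : Fin D.rank) : VN D F ⊓ Pi hD F i = XX D F (D.neg (D.simple i)) := by
  apply le_antisymm
  · rintro v ⟨hv, hP⟩
    have hs : nn hD F i ∈ (PP hD F).S := ⟨i, rfl⟩
    rcases Schreier.BNSch.mem_parabolic_singleton (PP hD F) hs hP with h | ⟨b, hb, b', hb', e⟩
    · rw [PP_B] at h
      have : v = 1 := Subtype.ext (one_of_mem_borel_of_mem_neg h hv hD)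
      rw [this]; exact one_mem _
    · rw [PP_B] at hb hb'
      obtain ⟨w, hw, h', hh', e'⟩ := Schreier.ChevSch.exists_mul F hD (inv_mem hb')
      -- `b' = h'⁻¹ w⁻¹`
      have e1 : b' = h'⁻¹ * w⁻¹ := by rw [← mul_inv_rev, ← e', inv_inv]
      obtain ⟨c, hc, t, ec⟩ := decomp hD i.2 (g := ((w⁻¹ : ↥(D.group F)) : GL D.Idx F)) (inv_mem hw)
      have hcG : c ∈ D.group F := comp_le hD i hc
      have e2 : w⁻¹ = ⟨c, hcG⟩ * xe hD (D.simple i) t := Subtype.ext ec
      have hnc : nn hD F i * ⟨c, hcG⟩ * (nn hD F i)⁻¹ ∈ BB D F := Subgroup.mem_sup_left (conj_comp hD i.2 hc)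
      have hnh : nn hD F i * h'⁻¹ * (nn hD F i)⁻¹ ∈ BB D F :=
        Subgroup.mem_sup_right (conj_mem_diagonal hD (nG_one_mem_monomial hD (simple_lt hD i.2)) (inv_mem hh'))
      set b2 := b * (nn hD F i * h'⁻¹ * (nn hD F i)⁻¹) * (nn hD F i * ⟨c, hcG⟩ * (nn hD F i)⁻¹) with hb2
      have hb2B : b2 ∈ BB D F := mul_mem (mul_mem hb hnh) hnc
      have e3 : v = b2 * nn hD F i * xe hD (D.simple i) t := by
        rw [e, e1, e2, hb2]; group
      by_cases ht : t = 0
      · exfalso
        rw [ht, xe_zero, mul_one] at e3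
        exact nn_ne hD i hb2B hv e3
      · -- `y = x_{-i}(t⁻¹)`
        have h1 := xG_neg_eq (F := F) hD (D.simple i) (-t)
        rw [inv_neg, neg_neg, neg_neg] at h1
        have h2 : xe hD (D.neg (D.simple i)) t⁻¹ =
            xe hD (D.simple i) t * ⟨hG hD (D.simple i) (-t), hG_mem_group hD _ _⟩ * nn hD F i *
              xe hD (D.simple i) t := by
          apply Subtype.ext
          show xG hD (D.neg (D.simple i)) t⁻¹ =
            xG hD (D.simple i) t * hG hD (D.simple i) (-t) * nS hD F i * xG hD (D.simple i) t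
          rw [h1, nG_eq, ← mul_assoc]
        have hy : xe hD (D.neg (D.simple i)) t⁻¹ ∈ VN D F :=
          xG_mem_negUnipotent hD (isNegRoot_neg_simple hD i.2) _
        have h3 : v * (xe hD (D.neg (D.simple i)) t⁻¹)⁻¹ ∈ BB D F := by
          have h4 : v * (xe hD (D.neg (D.simple i)) t⁻¹)⁻¹ =
              b2 * (⟨hG hD (D.simple i) (-t), hG_mem_group hD _ _⟩ : ↥(D.group F))⁻¹ * (xe hD (D.simple i) t)⁻¹ := by
            rw [e3, h2]; group
          rw [h4]
          refine mul_mem (mul_mem hb2B (inv_mem (Subgroup.mem_sup_right ?_))) (inv_mem (Subgroup.mem_sup_left ?_))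
          · exact hG_mem_diagonal hD (simple_lt hD i.2) (neg_ne_zero.2 ht)
          · exact xG_mem_posUnipotent hD (simple_pos hD i.2) _
        have h4 : v * (xe hD (D.neg (D.simple i)) t⁻¹)⁻¹ = 1 :=
          Subtype.ext (one_of_mem_borel_of_mem_neg h3 (mul_mem hv (inv_mem hy)) hD)
        rw [mul_inv_eq_one] at h4
        rw [h4]
        exact xe_mem_XX hD _ _
  · intro g hg
    rw [mem_XX hD] at hg
    obtain ⟨t, rfl⟩ := hg
    exact ⟨xG_mem_negUnipotent hD (isNegRoot_neg_simple hD i.2) _, xe_neg_mem_Pi hD i t⟩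

/-! ### Commuting root subgroups -/

theorem comm_opp {i j : Fin D.rank} (hij : i ≠ j) (s t : F) :
    xe hD (D.simple i) s * xe hD (D.neg (D.simple j)) t = xe hD (D.neg (D.simple j)) t * xe hD (D.simple i) s := by
  have hij' : (i : ℕ) ≠ j := fun h => hij (Fin.ext h)
  obtain ⟨h1, h2, h3⟩ := opp_spec hD i.2 j.2 hij'
  apply Subtype.ext
  refine TitsThree.KExcBase.comm_nil hD (simple_lt hD i.2) (neg_simple_lt hD j.2) (Ne.symm h3) ?_ h1 s t
  intro e
  have := congrArg D.neg e
  rw [neg_neg_simple hD j.2, neg_neg_simple hD i.2] at this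
  exact h2 this.symm

/-- `x_p(1)` and `x_{-p}(1)` do not commute. -/
theorem not_comm_self (i : Fin D.rank) :
    xe hD (D.simple i) (1 : F) * xe hD (D.neg (D.simple i)) (-1) ≠
      xe hD (D.neg (D.simple i)) (-1) * xe hD (D.simple i) 1 := by
  intro e
  have h1 := nG_def (F := F) hD (D.simple i) 1
  rw [inv_one] at h1
  have e' : xG hD (D.simple i) (1 : F) * xG hD (D.neg (D.simple i)) (-1) =
      xG hD (D.neg (D.simple i)) (-1) * xG hD (D.simple i) 1 := congrArg Subtype.val e
  obtain ⟨η, hη, h2⟩ := conj_simple (F := F) hD i.2 1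
  have h3 : nS hD F i * xG hD (D.simple i) 1 * (nS hD F i)⁻¹ = xG hD (D.simple i) 1 := by
    show nG hD (D.simple i) 1 * xG hD (D.simple i) 1 * (nG hD (D.simple i) 1)⁻¹ = xG hD (D.simple i) 1
    rw [mul_inv_eq_iff_eq_mul, h1]
    rw [← e']
    simp only [← mul_assoc]
    rw [mul_assoc _ (xG hD (D.neg (D.simple i)) (-1)) (xG hD (D.simple i) 1), ← e', ← mul_assoc]
  rw [h3, mul_one] at h2
  have h4 : xG hD (D.simple i) (1 : F) ∈ D.borelSubgroup F :=
    Subgroup.mem_sup_left (xG_mem_posUnipotent hD (simple_pos hD i.2) _)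
  rw [h2] at h4
  exact neg_not_mem_borel hD i.2 (sign_ne_zero hη) h4

theorem comm_iff (hD : InList D) (i j : Fin D.rank) :
    (∀ x ∈ XX D F (D.simple i), ∀ y ∈ XX D F (D.neg (D.simple j)), x * y = y * x) ↔ i ≠ j := by
  constructor
  · rintro h rfl
    exact not_comm_self (F := F) hD i (h _ (xe_mem_XX hD _ _) _ (xe_mem_XX hD _ _))
  · intro hij x hx y hy
    obtain ⟨s, rfl⟩ := (mem_XX hD).1 hx
    obtain ⟨t, rfl⟩ := (mem_XX hD).1 hy
    exact comm_opp hD hij s t

theorem YY_injective (hD : InList D) : Function.Injective (fun i : Fin D.rank => XX D F (D.neg (D.simple i))) := by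
  intro i j h
  by_contra hne
  have h1 := (comm_iff (F := F) hD i j).2 hne
  have h2 : XX D F (D.neg (D.simple i)) = XX D F (D.neg (D.simple j)) := h
  rw [← h2, comm_iff hD] at h1
  exact h1 rfl

theorem exists_smul_Pi {φ : MulAut ↥(D.group F)} (hU : φ • UU D F = UU D F) (i : Fin D.rank) :
    ∃ j, φ • Pi hD F i = Pi hD F j := by
  have hB : (PP hD F).B.map φ.toMonoidHom = (PP hD F).B := by
    rw [PP_B, ← normalizer_UU hD]
    show φ • Subgroup.normalizer ((UU D F : Subgroup ↥(D.group F)) : Set ↥(D.group F)) = _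
    rw [smul_normalizer, hU]
  obtain ⟨t, ⟨j, rfl⟩, h⟩ := Schreier.BNSch.exists_map_eq (PP hD F) φ hB (s := nn hD F i) ⟨i, rfl⟩
  exact ⟨j, h⟩

/-- **Steinberg's theorem, first part.** -/
theorem exists_conj_perm (hD : InList D) [Finite F] (θ : MulAut ↥(D.group F)) :
    ∃ (x : ↥(D.group F)) (π : Equiv.Perm (Fin D.rank)),
      (MulAut.conj x * θ) • UU D F = UU D F ∧ (MulAut.conj x * θ) • VN D F = VN D F ∧
      (∀ i : Fin D.rank, (MulAut.conj x * θ) • XX D F (D.simple i) = XX D F (D.simple (π i))) ∧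
      ∀ i : Fin D.rank, (MulAut.conj x * θ) • XX D F (D.neg (D.simple i)) = XX D F (D.neg (D.simple (π i))) := by
  have hfin : Finite (GL D.Idx F) := inferInstance
  have hfinG : Finite ↥(D.group F) := inferInstance
  obtain ⟨p, hc⟩ := CharP.exists F
  have hp : Fact p.Prime := ⟨(CharP.char_is_prime_or_zero F p).resolve_right (CharP.char_ne_zero_of_finite F p)⟩
  obtain ⟨S, hS⟩ := exists_sylow (F := F) hD (p := p)
  obtain ⟨n₀, hn, h1, h2, ω, hω⟩ := exists_n0 hD F
  obtain ⟨x, h3, h4⟩ := exists_conj_smul_eq S (VN D F) (NN D F)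
    (by
      rw [hS, normalizer_UU hD]
      exact bruhat hD)
    ⟨n₀, by rw [hS, h1]⟩ (by rw [hS]; exact UU_inf_VN hD)
    (by
      rw [hS]
      intro n hn h
      exact uniq hD hn (card_VN hD F) h) θ
  rw [hS] at h3
  obtain ⟨π, h5, h6⟩ := exists_perm (UU D F) (VN D F) n₀ h1 h2 (Pi hD F) (fun i : Fin D.rank => XX D F (D.simple i))
    (fun i : Fin D.rank => XX D F (D.neg (D.simple i))) (VN_inf_Pi hD) (YY_injective hD)
    (by
      intro i h hh
      rw [normalizer_inf hD] at hh
      exact conj_XX hD hh (neg_simple_lt hD i.2))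
    ω hω (comm_iff hD) (MulAut.conj x * θ) h3 h4 (exists_smul_Pi hD h3)
  exact ⟨x, π, h3, h4, h5, h6⟩

end Cfsg.Agent.H70.ChevFix
end
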