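import Cfsg.Agent.H6.He.Row
import Cfsg.Agent.H940.EngData
import Cfsg.Agent.H715.Fpr.Row4_m3
import Cfsg.Agent.Lib.ElemAbGL
import Cfsg.Agent.Lib.MinNormal
import Cfsg.Agent.FastGrp
import Cfsg.Agent.Prune
set_option linter.all false
prune_inst 0x7f00000000000000000000000000000000000000000000000000000000000000000000000000000000000000000000000000000000000000000000000000000000000000000000000000000000000000003fffffffffffffffffffffffffffbeffbdffffffff
open scoped Cfsg.Agent.FastGrp

-- part: H70/HeMax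
section
/-!
# The normalizers of the two self-centralizing subgroups `2^6` of the Held group are maximal (helper70)

* `min_cases` : orders of minimal normal subgroups;
* `Dat V T J` : `V` is weakly closed in the Sylow 2-subgroup `T`, self-centralizing, `N(V)` is irreducible on `V` and the orders
  of the normal subgroups of `N(V)` containing `V` lie in `J`;
* `Frame.dat` : the data for a frame (`N(V) = 2^6:3.S6`); `coatom1`, `coatom2`.
-/

set_option autoImplicit false

namespace Cfsg.Agent.H70.HeMax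

open Subgroup

/-- minimal normal subgroups -/
theorem min_cases {K : Type*} [Group K] [Finite K] (N : Subgroup K) [N.Normal] (hN : N ≠ ⊥)
    (hmin : ∀ M : Subgroup K, M.Normal → M ≤ N → M = ⊥ ∨ M = N) :
    (∃ p k : ℕ, p.Prime ∧ Nat.card N = p ^ k ∧ (∀ x ∈ N, ∀ y ∈ N, x * y = y * x) ∧ ∀ x ∈ N, x ^ p = 1) ∨
    ∃ (k : ℕ) (S : Subgroup K), IsSimpleGroup S ∧ (¬ ∀ a b : S, a * b = b * a) ∧ Nat.card N = Nat.card S ^ k := by
  obtain ⟨S, m, -, hS, hm, ⟨e⟩⟩ := Lib.MinNormal.exists_mulEquiv_pi N hN hmin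
  have hc : Nat.card N = Nat.card S ^ m := by
    rw [Nat.card_congr e.toEquiv, Nat.card_fun, Nat.card_fin]
  by_cases hab : ∀ a b : S, a * b = b * a
  · left
    have hprime : (Nat.card S).Prime := by
      let : CommGroup S := { (inferInstance : Group S) with mul_comm := hab }
      exact IsSimpleGroup.prime_card
    refine ⟨Nat.card S, m, hprime, hc, ?_, ?_⟩
    · intro x hx y hy
      have h1 : (⟨x, hx⟩ : N) * ⟨y, hy⟩ = ⟨y, hy⟩ * ⟨x, hx⟩ := e.injective (by
        rw [map_mul, map_mul]; funext i; exact hab _ _)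
      exact congrArg Subtype.val h1
    · intro x hx
      have h1 : (⟨x, hx⟩ : N) ^ Nat.card S = 1 := e.injective (by
        rw [map_pow, map_one]; funext i; exact pow_card_eq_one')
      exact congrArg Subtype.val h1
  · right
    exact ⟨m, S, hS, hab, hc⟩

theorem exists_min (K : Type*) [Group K] [Finite K] [Nontrivial K] : ∃ N : Subgroup K, N.Normal ∧ N ≠ ⊥ ∧
    ∀ M : Subgroup K, M.Normal → M ≤ N → M = ⊥ ∨ M = N := by
  obtain ⟨N, hN⟩ := (Set.toFinite {N : Subgroup K | N.Normal ∧ N ≠ ⊥}).exists_minimal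
    ⟨⊤, inferInstance, top_ne_bot⟩
  refine ⟨N, hN.1.1, hN.1.2, fun M hM hMN => ?_⟩
  by_cases h : M = ⊥
  · exact Or.inl h
  · exact Or.inr (le_antisymm hMN (hN.2 ⟨hM, h⟩ hMN))

/-- a subgroup acting faithfully on an elementary abelian normal subgroup -/
theorem dvd_GL {K : Type*} [Group K] [Finite K] (N : Subgroup K) [hN : N.Normal] {p k : ℕ} (hp : p.Prime)
    (hc : Nat.card N = p ^ k) (hcomm : ∀ x ∈ N, ∀ y ∈ N, x * y = y * x) (hpow : ∀ x ∈ N, x ^ p = 1) (T : Subgroup K)
    (hT : T ⊓ centralizer (N : Set K) = ⊥) : Nat.card T ∣ Nat.card (Matrix.GeneralLinearGroup (Fin k) (ZMod p)) := by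
  have := Fact.mk hp
  let : CommGroup N := { (inferInstance : Group N) with mul_comm := fun a b => Subtype.ext (hcomm _ a.2 _ b.2) }
  obtain ⟨e⟩ := Lib.ElemAbGL.mulAut_equiv_GL (V := N) p k (fun x => Subtype.ext (hpow _ x.2)) hc
  rw [← Nat.card_congr e.toEquiv]
  let f : T →* MulAut N := (MulAut.conjNormal : K →* MulAut N).comp T.subtype
  have hinj : Function.Injective f := by
    rw [injective_iff_map_eq_one]
    intro t ht
    have h1 : (t : K) ∈ T ⊓ centralizer (N : Set K) := by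
      refine mem_inf.2 ⟨t.2, ?_⟩
      rw [mem_centralizer_iff]
      intro x hx
      have h2 : MulAut.conjNormal (t : K) (⟨x, hx⟩ : N) = ⟨x, hx⟩ := by
        have h3 := congrArg (fun φ : MulAut N => φ ⟨x, hx⟩) ht
        exact h3
      have h4 := congrArg Subtype.val h2
      rw [MulAut.conjNormal_apply] at h4
      exact (mul_inv_eq_iff_eq_mul.1 h4).symm
    rw [hT, mem_bot] at h1
    exact Subtype.ext h1
  exact card_dvd_of_injective f hinj

/-- the data -/
structure Dat {G : Type*} [Group G] (V : Subgroup G) (T : Sylow 2 G) (J : List ℕ) : Prop where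
  le : V ≤ (T : Subgroup G)
  cen : ∀ g : G, (∀ v ∈ V, g * v = v * g) → g ∈ V
  weak : ∀ g : G, (∀ v ∈ V, g * v * g⁻¹ ∈ (T : Subgroup G)) → g ∈ normalizer (V : Set G)
  irr : ∀ U : Subgroup G, U ≤ V → (∀ g ∈ normalizer (V : Set G), ∀ u ∈ U, g * u * g⁻¹ ∈ U) → U = ⊥ ∨ U = V
  nrm : ∀ M : Subgroup G, V ≤ M → M ≤ normalizer (V : Set G) →
    (∀ g ∈ normalizer (V : Set G), ∀ u ∈ M, g * u * g⁻¹ ∈ M) → Nat.card M ∈ J

section

variable {G : Type*} [Group G] [Finite G] {V : Subgroup G} {T : Sylow 2 G} {J : List ℕ} (d : Dat V T J)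
include d

omit [Finite G] in
theorem Dat.T_le : (T : Subgroup G) ≤ normalizer (V : Set G) := fun t ht =>
  d.weak t fun _ hv => (T : Subgroup G).mul_mem (mul_mem ht (d.le hv)) (inv_mem ht)

/-- a normal subgroup of an overgroup of `N(V)` of even order contains `V` -/
theorem Dat.le_of_inf {K : Subgroup G} (hK : normalizer (V : Set G) ≤ K) (M : Subgroup K) [hM : M.Normal]
    (h : (T : Subgroup G).subgroupOf K ⊓ M ≠ ⊥) : V.subgroupOf K ≤ M := by
  have : Fact (Nat.Prime 2) := ⟨Nat.prime_two⟩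
  set M' : Subgroup G := M.map K.subtype with hM'
  have hconj : ∀ g ∈ K, ∀ u ∈ M', g * u * g⁻¹ ∈ M' := by
    rintro g hg _ ⟨u, hu, rfl⟩
    exact ⟨(⟨g, hg⟩ * u * ⟨g, hg⟩⁻¹ :), hM.conj_mem u hu _, rfl⟩
  have hTK : (T : Subgroup G) ≤ K := d.T_le.trans hK
  have hn' : (M'.subgroupOf (T : Subgroup G)).Normal := by
    refine ⟨fun n hn g => ?_⟩
    rw [mem_subgroupOf] at hn ⊢
    exact hconj _ (hTK g.2) _ hn
  have hnil : Group.IsNilpotent (T : Subgroup G) := T.isPGroup'.isNilpotent
  have hne' : M'.subgroupOf (T : Subgroup G) ≠ ⊥ := by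
    intro hb
    apply h
    rw [eq_bot_iff]
    intro x hx
    obtain ⟨hx1, hx2⟩ := mem_inf.1 hx
    have h1 : (⟨(x : G), mem_subgroupOf.1 hx1⟩ : (T : Subgroup G)) ∈ M'.subgroupOf (T : Subgroup G) :=
      mem_subgroupOf.2 ⟨x, hx2, rfl⟩
    rw [hb, mem_bot] at h1
    have h2 : (x : G) = 1 := congrArg Subtype.val h1
    rw [mem_bot]
    exact Subtype.ext h2
  obtain ⟨⟨y, hyR, hyc⟩, hy1⟩ := (Subgroup.ne_bot_iff_exists_ne_one).1
    (Lib.NormalAbelian.normal_inf_center_ne_bot _ hne')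
  have hy1' : (y : G) ≠ 1 := fun h => hy1 (Subtype.ext (Subtype.ext h))
  have hyV : (y : G) ∈ V := d.cen _ fun v hv => by
    have h4 := mem_center_iff.1 hyc ⟨v, d.le hv⟩
    exact (congrArg Subtype.val h4).symm
  have hU := d.irr (V ⊓ M') inf_le_left (fun g hg u hu => by
    obtain ⟨hu1, hu2⟩ := mem_inf.1 hu
    exact mem_inf.2 ⟨(mem_normalizer_iff.1 hg u).1 hu1, hconj g (hK hg) u hu2⟩)
  have hyU : (y : G) ∈ V ⊓ M' := mem_inf.2 ⟨hyV, mem_subgroupOf.1 hyR⟩
  rcases hU with hU | hU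
  · rw [hU, mem_bot] at hyU
    exact absurd hyU hy1'
  · intro v hv
    have h1 : (v : G) ∈ M' := (hU.ge.trans inf_le_right) (mem_subgroupOf.1 hv)
    obtain ⟨w, hw, e⟩ := h1
    rwa [← Subtype.ext e]

omit [Finite G] d in
theorem card_subgroupOf_of_le {A B : Subgroup G} (h : A ≤ B) : Nat.card (A.subgroupOf B) = Nat.card A :=
  Nat.card_congr (subgroupOfEquivOfLe h).toEquiv

/-- the Frattini argument -/
theorem Dat.card_of_le {K : Subgroup G} (hK : normalizer (V : Set G) ≤ K) (N : Subgroup K) [hN : N.Normal]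
    (h : V.subgroupOf K ≤ N) : ∃ j ∈ J, Nat.card N * Nat.card (normalizer (V : Set G)) = Nat.card K * j := by
  have : Fact (Nat.Prime 2) := ⟨Nat.prime_two⟩
  have hTK : (T : Subgroup G) ≤ K := d.T_le.trans hK
  have hVK : V ≤ K := (d.le).trans hTK
  set X : Subgroup K := (normalizer (V : Set G)).subgroupOf K with hX
  have htop := Lib.SylowNormalInf.normalizer_inf_sup_eq_top (T.subtype hTK) N
  have hsub : normalizer ((((T.subtype hTK : Subgroup K) ⊓ N : Subgroup K)) : Set K) ≤ X := by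
    intro g hg
    rw [hX, mem_subgroupOf]
    apply d.weak
    intro v hv
    have h1 : (⟨v, hVK hv⟩ : K) ∈ ((T.subtype hTK : Subgroup K) ⊓ N : Subgroup K) :=
      mem_inf.2 ⟨d.le hv, h (mem_subgroupOf.2 hv)⟩
    have h3 := (mem_normalizer_iff.1 hg _).1 h1
    exact (mem_inf.1 h3).1
  have hNX : N ⊔ X = ⊤ := by
    rw [eq_top_iff, ← htop]
    exact sup_le (hsub.trans le_sup_right) le_sup_left
  have hcard := H940.Eng.card_sup_mul_card_inf N X
  rw [hNX, card_top, card_subgroupOf_of_le hK] at hcard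
  set M : Subgroup G := (N ⊓ X).map K.subtype with hM
  have hMc : Nat.card M = Nat.card ↥(N ⊓ X) := card_map_of_injective K.subtype_injective
  have hMX : M ≤ normalizer (V : Set G) := by
    rintro _ ⟨x, hx, rfl⟩
    exact mem_subgroupOf.1 (mem_inf.1 hx).2
  have hVM : V ≤ M := by
    intro v hv
    exact ⟨⟨v, hVK hv⟩, mem_inf.2 ⟨h (mem_subgroupOf.2 hv), mem_subgroupOf.2 (le_normalizer hv)⟩, rfl⟩
  refine ⟨Nat.card M, d.nrm M hVM hMX ?_, by rw [hMc]; exact hcard.symm⟩
  rintro g hg _ ⟨u, hu, rfl⟩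
  obtain ⟨hu1, hu2⟩ := mem_inf.1 hu
  refine ⟨(⟨g, hK hg⟩ * u * ⟨g, hK hg⟩⁻¹ :), mem_inf.2 ⟨hN.conj_mem u hu1 _, ?_⟩, rfl⟩
  exact mul_mem (mul_mem (mem_subgroupOf.2 hg) hu2) (inv_mem (mem_subgroupOf.2 hg))

/-- a nontrivial normal subgroup of odd order -/
theorem Dat.inf_cent {K : Subgroup G} (hK : normalizer (V : Set G) ≤ K) (N : Subgroup K) [hN : N.Normal] (hne : N ≠ ⊥)
    (h2 : ¬ 2 ∣ Nat.card N) : (T : Subgroup G).subgroupOf K ⊓ centralizer (N : Set K) = ⊥ := by
  have : Fact (Nat.Prime 2) := ⟨Nat.prime_two⟩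
  by_contra hcon
  have h1 := d.le_of_inf hK (centralizer (N : Set K)) hcon
  have hTK : (T : Subgroup G) ≤ K := d.T_le.trans hK
  have hVK : V ≤ K := (d.le).trans hTK
  have h3 : N.map K.subtype ≤ (T : Subgroup G) := by
    rintro _ ⟨x, hx, rfl⟩
    apply d.le
    apply d.cen
    intro v hv
    have h4 := mem_centralizer_iff.1 (h1 (show (⟨v, hVK hv⟩ : K) ∈ V.subgroupOf K from mem_subgroupOf.2 hv)) x hx
    exact congrArg Subtype.val h4
  obtain ⟨n, hn⟩ := IsPGroup.iff_card.1 T.isPGroup'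
  have h5 : Nat.card N ∣ 2 ^ n := by
    rw [← hn, ← card_map_of_injective K.subtype_injective]
    exact card_dvd_of_le h3
  obtain ⟨k, -, hk⟩ := (Nat.dvd_prime_pow Nat.prime_two).1 h5
  rcases Nat.eq_zero_or_pos k with rfl | hk0
  · rw [pow_zero] at hk
    exact hne (Subgroup.card_eq_one.1 hk)
  · apply h2
    rw [hk]
    exact dvd_pow_self 2 hk0.ne'

end

/-! ### Numbers of the Held group -/

open H940.Eng H940.Eng.D Cfsg.Agent.OrdDiv

/-- the orders of the normal subgroups of `2^6:3.S6` containing `2^6` (and some more) -/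
def J : List ℕ := [64, 192, 23040, 46080, 69120, 138240]

theorem power_chk : (divsT [(5, 1), (7, 3), (17, 1)]).all (fun m => J.all fun j => o_he.all fun s => (List.range 7).all fun k =>
    s ^ k != m * j || m * j == 1 || m * j == n_he) = true := by decide +kernel

/-- the power of the order of a simple group -/
theorem power_eq {m j s k : ℕ} (hm : m ∣ 29155) (hj : j ∈ J) (hs : s ∈ o_he) (h : s ^ k = m * j) (h1 : m * j ≠ 1) :
    m * j = n_he := by
  have h0 := power_chk
  rw [List.all_eq_true] at h0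
  have hp : ∀ x ∈ ([(5, 1), (7, 3), (17, 1)] : List (ℕ × ℕ)), (x.1).Prime := by
    intro x hx
    simp only [List.mem_cons, List.not_mem_nil, or_false] at hx
    rcases hx with rfl | rfl | rfl <;> norm_num
  have h2 := h0 m (mem_divsT hp (by rw [show prodl [(5, 1), (7, 3), (17, 1)] = 29155 by decide +kernel]; exact hm))
  rw [List.all_eq_true] at h2
  have h3 := h2 j hj
  rw [List.all_eq_true] at h3
  have h4 := h3 s hs
  rw [List.all_eq_true] at h4
  have hs2 : 60 ≤ s := (by decide +kernel : ∀ s ∈ o_he, 60 ≤ s) s hs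
  have hj2 : j ≤ 138240 := (by decide +kernel : ∀ j ∈ J, j ≤ 138240) j hj
  have hm2 : m ≤ 29155 := Nat.le_of_dvd (by norm_num) hm
  have hk : k < 7 := by
    by_contra hk
    push Not at hk
    have h5 : 60 ^ 7 ≤ s ^ k := (Nat.pow_le_pow_right (by norm_num) hk).trans (Nat.pow_le_pow_left hs2 k)
    have h6 : m * j ≤ 29155 * 138240 := Nat.mul_le_mul hm2 hj2
    rw [h] at h5
    exact absurd (h5.trans h6) (by norm_num)
  have h5 := h4 k (List.mem_range.2 hk)
  rw [Bool.or_eq_true, Bool.or_eq_true, bne_iff_ne, beq_iff_eq, beq_iff_eq] at h5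
  rcases h5 with (h5 | h5) | h5
  · exact absurd h h5
  · exact absurd h5 h1
  · exact h5

theorem not_dvd_GL {p k : ℕ} (hp : p.Prime) (hk0 : k ≠ 0) (hp2 : p ≠ 2) (h : p ^ k ∣ n_he) :
    ¬ 1024 ∣ Nat.card (Matrix.GeneralLinearGroup (Fin k) (ZMod p)) := by
  have := Fact.mk hp
  obtain ⟨e, he, hke⟩ := exists_pair v_he hp (Nat.one_le_iff_ne_zero.2 hk0) h
  rw [Matrix.card_GL_field, ZMod.card]
  simp only [l_he, List.mem_cons, List.not_mem_nil, or_false, Prod.mk.injEq] at he
  rcases he with ⟨rfl, rfl⟩ | ⟨rfl, rfl⟩ | ⟨rfl, rfl⟩ | ⟨rfl, rfl⟩ | ⟨rfl, rfl⟩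
  · exact absurd rfl hp2
  all_goals
    interval_cases k <;> simp only [Fin.prod_univ_succ, _root_.ne_eq, _root_.Nat.succ_ne_self, _root_.not_false_eq_true, _root_.not_true_eq_false, _root_.one_ne_zero, _root_.pow_one, _root_.Nat.one_le_ofNat, _root_.Finset.univ_unique, _root_.Fin.default_eq_zero, _root_.Fin.isValue, _root_.Fin.val_eq_zero, _root_.pow_zero, _root_.Nat.add_one_sub_one, _root_.Finset.prod_const, _root_.Finset.card_singleton, _root_.Nat.reduceDvd, _root_.OfNat.ofNat_ne_zero, _root_.Nat.reducePow, _root_.Nat.reduceLeDiff, _root_.Fin.coe_ofNat_eq_mod, _root_.Nat.zero_mod, _root_.Fin.val_succ, _root_.zero_add, _root_.Nat.reduceSub, _root_.Nat.reduceMul, _root_.Std.le_refl, _root_.Nat.reduceAdd, _root_.Nat.reduceEqDiff] at *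

/-- **maximality** -/
theorem coatom_of (B : Base) {G : Type} [Group G] [Finite G] (hG : Nat.card G = n_he) {V : Subgroup G} {T : Sylow 2 G}
    (d : Dat V T J) (hc : Nat.card (normalizer (V : Set G)) = 138240)
    (hov : ∀ H : Subgroup G, (T : Subgroup G) ≤ H → Cfsg.pCore 2 H ≠ ⊥ → Nat.card H ≤ 138240) :
    IsCoatom (normalizer (V : Set G)) := by
  have h2 : Fact (Nat.Prime 2) := ⟨Nat.prime_two⟩
  refine ⟨fun h => ?_, fun K hK => ?_⟩
  · rw [h, card_top, hG] at hc
    exact absurd hc (by decide +kernel)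
  by_contra hKt
  have hXK := hK.le
  have hTK : (T : Subgroup G) ≤ K := d.T_le.trans hXK
  have hKn : Nat.card K ∣ n_he := hG ▸ card_subgroup_dvd_card K
  obtain ⟨m, hm⟩ := card_dvd_of_le hXK
  rw [hc] at hm
  have hm1 : m ∣ 29155 := by
    rw [hm, show n_he = 138240 * 29155 by decide +kernel] at hKn
    exact Nat.dvd_of_mul_dvd_mul_left (by norm_num) hKn
  have hTc : Nat.card (T : Subgroup G) = 1024 := by
    rw [T.card_eq_multiplicity, hG]
    decide +kernel
  have hKnt : Nontrivial K := by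
    rw [← Finite.one_lt_card_iff_nontrivial]
    exact lt_of_lt_of_le (by norm_num) (hc ▸ Nat.le_of_dvd Nat.card_pos (card_dvd_of_le hXK))
  have hK' : ¬ Nat.card K ≤ 138240 := by
    intro h
    exact hK.ne (eq_of_le_of_card_ge hXK (by rw [hc]; exact h))
  obtain ⟨N, hNn, hN, hmin⟩ := exists_min K
  have hNK : Nat.card N ∣ n_he := (card_subgroup_dvd_card N).trans hKn
  have hords : ∀ S : Subgroup K, IsSimpleGroup S → (¬ ∀ a b : S, a * b = b * a) → Nat.card S ∈ o_he := fun S hS hna =>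
    ords_he B S hS hna ((card_subgroup_dvd_card S).trans hKn)
  by_cases h2N : 2 ∣ Nat.card N
  · have hinf : (T : Subgroup G).subgroupOf K ⊓ N ≠ ⊥ := by
      intro h
      have h3 := card_sup_mul_card_inf N ((T : Subgroup G).subgroupOf K)
      rw [inf_comm, h, card_bot, mul_one, card_subgroupOf_of_le hTK, hTc] at h3
      have h4 : 2 * 1024 ∣ n_he := by
        refine dvd_trans ?_ ((card_subgroup_dvd_card (N ⊔ (T : Subgroup G).subgroupOf K)).trans hKn)
        rw [h3]
        exact Nat.mul_dvd_mul_right h2N _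
      exact absurd h4 (by decide +kernel)
    have hle := d.le_of_inf hXK N hinf
    obtain ⟨j, hj, hcard⟩ := d.card_of_le hXK N hle
    have hNc : Nat.card N = m * j := by
      rw [hc, hm] at hcard
      apply Nat.eq_of_mul_eq_mul_right (show 0 < 138240 by norm_num)
      rw [hcard]; ring
    rcases min_cases N hN hmin with ⟨p, k, hp, hpk, -, -⟩ | ⟨k, S, hS, hna, hpk⟩
    · have hp2 : p = 2 := by
        rw [hpk] at h2N
        exact ((Nat.prime_dvd_prime_iff_eq Nat.prime_two hp).1 (Nat.prime_two.dvd_of_dvd_pow h2N)).symm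
      rw [hp2] at hpk
      have h3 : N ≤ Cfsg.pCore 2 K := Lib.Cores.le_pCore hNn (IsPGroup.of_card hpk)
      apply hK'
      apply hov K hTK
      intro h4
      rw [h4] at h3
      exact hN (le_bot_iff.1 h3)
    · have h3 := power_eq hm1 hj (hords S hS hna) (hpk.symm.trans hNc) (by
        rw [← hNc]
        intro h
        exact hN (Subgroup.card_eq_one.1 h))
      apply hKt
      rw [← card_eq_iff_eq_top, hG]
      apply le_antisymm (Nat.le_of_dvd (by decide +kernel) hKn)
      rw [← h3, ← hNc]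
      exact Nat.le_of_dvd Nat.card_pos (card_subgroup_dvd_card N)
  · have hk0 : ∀ {s k : ℕ}, Nat.card N = s ^ k → k ≠ 0 := by
      rintro s k h rfl
      rw [pow_zero] at h
      exact hN (Subgroup.card_eq_one.1 h)
    rcases min_cases N hN hmin with ⟨p, k, hp, hpk, hcomm, hpow⟩ | ⟨k, S, hS, hna, hpk⟩
    · have hp2 : p ≠ 2 := by
        rintro rfl
        exact h2N (hpk ▸ dvd_pow_self 2 (hk0 hpk))
      apply not_dvd_GL hp (hk0 hpk) hp2 (hpk ▸ hNK)
      rw [← hTc, ← card_subgroupOf_of_le hTK]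
      exact dvd_GL N hp hpk hcomm hpow _ (d.inf_cent hXK N hN h2N)
    · have h3 := (by decide +kernel : ∀ s ∈ o_he, 2 ∣ s) _ (hords S hS hna)
      exact h2N (hpk ▸ h3.trans (dvd_pow_self _ (hk0 hpk)))

end Cfsg.Agent.H70.HeMax
end

-- part: H70/HeFrameDat
section
/-!
# The data of a frame of the Held group (helper70)
-/

set_option autoImplicit false

namespace Cfsg.Agent.H70.HeFrameDat

open Subgroup Cfsg.Agent.H6.HexW Cfsg.Agent.H70.HeMax

/-! ### The group `3·S6` on the 64 vectors -/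

theorem proj_chk : ∀ v : W, v + aa v + aa (aa v) = (v.1, 0, 0) := by
  intro v; simp only [aa_apply]; revert v; decide +kernel

theorem fa_chk : ∀ a : F, a ≠ 0 → (a = e1 ∨ om a = e1 ∨ om (om a) = e1) ∧ (a = ew ∨ om a = ew ∨ om (om a) = ew) := by
  decide +kernel

theorem om_zero : om 0 = 0 := by decide +kernel

/-- a nonzero subspace invariant under `aa`, `bb`, `sc` is everything -/
theorem all_of {P : W → Prop} (hadd : ∀ u v, P u → P v → P (u + v)) (h0 : P 0) (ha : ∀ v, P v → P (aa v))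
    (hb : ∀ v, P v → P (bb v)) (hs : ∀ v, P v → P (sc v)) {w : W} (hw : w ≠ 0) (hP : P w) : ∀ v, P v := by
  have hproj : ∀ v, P v → P (v.1, 0, 0) := fun v hv => by
    rw [← proj_chk]
    exact hadd _ _ (hadd _ _ hv (ha _ hv)) (ha _ (ha _ hv))
  have h1 : ∃ a : F, a ≠ 0 ∧ P (a, 0, 0) := by
    by_cases h1 : w.1 = 0
    · by_cases h2 : w.2.2 = 0
      · by_cases h3 : w.2.1 = 0
        · exact absurd (Prod.ext h1 (Prod.ext h3 h2)) hw
        · have h4 := hproj _ (hb _ (hb _ hP))
          simp only [bb_apply] at h4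
          exact ⟨_, h3, h4⟩
      · have h4 := hproj _ (hb _ hP)
        simp only [bb_apply] at h4
        exact ⟨_, h2, h4⟩
    · exact ⟨_, h1, hproj _ hP⟩
  obtain ⟨a, ha0, haP⟩ := h1
  have hsa : ∀ b : F, P (b, 0, 0) → P (om b, 0, 0) := fun b hb' => by
    have h4 := hs _ hb'
    simp only [sc_apply, om_zero] at h4
    exact h4
  have hba : ∀ b : F, P (b, 0, 0) → P (0, b, 0) ∧ P (0, 0, b) := fun b hb' => by
    have h4 := hb _ hb'
    simp only [bb_apply] at h4
    have h5 := hb _ h4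
    simp only [bb_apply] at h5
    exact ⟨h4, h5⟩
  obtain ⟨h2, h3⟩ := fa_chk a ha0
  have he : P (e1, 0, 0) := by
    rcases h2 with h | h | h
    · rw [← h]; exact haP
    · rw [← h]; exact hsa _ haP
    · rw [← h]; exact hsa _ (hsa _ haP)
  have hw' : P (ew, 0, 0) := by
    rcases h3 with h | h | h
    · rw [← h]; exact haP
    · rw [← h]; exact hsa _ haP
    · rw [← h]; exact hsa _ (hsa _ haP)
  exact induct hadd h0 he hw' (hba _ he).1 (hba _ hw').1 (hba _ he).2 (hba _ hw').2

/-- the order of a subgroup from its image -/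
theorem card_map_ker {A B : Type*} [Group A] [Group B] [Finite A] (f : A →* B) (H : Subgroup A) :
    Nat.card H = Nat.card (H.map f) * Nat.card ↥(H ⊓ f.ker) := by
  have h1 : (f.comp H.subtype).range = H.map f := by
    rw [MonoidHom.range_comp, range_subtype]
  have h2 : Nat.card (f.comp H.subtype).ker = Nat.card ↥(H ⊓ f.ker) := by
    have h3 : (f.comp H.subtype).ker.map H.subtype = H ⊓ f.ker := by
      ext x
      constructor
      · rintro ⟨y, hy, rfl⟩
        exact mem_inf.2 ⟨y.2, hy⟩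
      · intro hx
        obtain ⟨h4, h5⟩ := mem_inf.1 hx
        exact ⟨⟨x, h4⟩, h5, rfl⟩
    rw [← h3, card_map_of_injective H.subtype_injective]
  rw [← h1, ← h2, ← card_mul_index (f.comp H.subtype).ker, index_ker, mul_comm]

/-- the orders of the normal subgroups of `3·S6` -/
theorem card_normal (hs : Function.Surjective pi) (P : Subgroup GW) (hP : P.Normal) :
    64 * Nat.card P ∈ J := by
  have hQ : (P.map _root_.Cfsg.Agent.H6.HexW.pi).Normal := hP.map _root_.Cfsg.Agent.H6.HexW.pi hs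
  have hq : Nat.card (P.map _root_.Cfsg.Agent.H6.HexW.pi) = 1 ∨ Nat.card (P.map _root_.Cfsg.Agent.H6.HexW.pi) = 360 ∨ Nat.card (P.map _root_.Cfsg.Agent.H6.HexW.pi) = 720 := by
    by_cases hb : P.map _root_.Cfsg.Agent.H6.HexW.pi = ⊥
    · left; rw [hb]; exact card_bot
    · right
      have hnt : Nontrivial (P.map _root_.Cfsg.Agent.H6.HexW.pi) := (nontrivial_iff_ne_bot _).2 hb
      have h1 := Equiv.Perm.alternatingGroup_le_of_normal (α := Fin 6) (by rw [Nat.card_fin]; norm_num) hnt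
      have h2 : Nat.card (alternatingGroup (Fin 6)) = 360 := by
        rw [nat_card_alternatingGroup, Nat.card_fin]; rfl
      have h3 : Nat.card (Equiv.Perm (Fin 6)) = 720 := by
        rw [Nat.card_perm, Nat.card_fin]; rfl
      obtain ⟨c, hc⟩ := card_dvd_of_le h1
      rw [h2] at hc
      have h4 := card_subgroup_dvd_card (P.map _root_.Cfsg.Agent.H6.HexW.pi)
      rw [h3, hc, show (720 : ℕ) = 360 * 2 by norm_num] at h4
      have h5 : c ∣ 2 := Nat.dvd_of_mul_dvd_mul_left (by norm_num) h4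
      rcases (Nat.dvd_prime Nat.prime_two).1 h5 with h6 | h6
      · left; rw [hc, h6]
      · right; rw [hc, h6]
  have hk : Nat.card ↥(P ⊓ pi.ker) = 1 ∨ Nat.card ↥(P ⊓ pi.ker) = 3 := by
    apply (Nat.dvd_prime Nat.prime_three).1
    rw [← card_ker]
    exact card_dvd_of_le inf_le_right
  rw [card_map_ker _root_.Cfsg.Agent.H6.HexW.pi P]
  rcases hq with h | h | h <;> rcases hk with h' | h' <;> rw [h, h'] <;> decide

section

variable {G : Type*} [Group G] {z : G} {V : Subgroup G} {e : W → G} {σ : Equiv.Perm (Fin 6)} {g h : G}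

/-- the elements of `3·S6` are induced by `N(V)` -/
theorem exists_act (fr : Frame z V e σ g h) {α : Equiv.Perm W} (hα : α ∈ GW) :
    ∃ x ∈ normalizer (V : Set G), ∀ w, e (α w) = x * e w * x⁻¹ := by
  obtain ⟨x, hx⟩ := fr.psi_surj ⟨α, hα⟩
  refine ⟨x, x.2, fun w => ?_⟩
  rw [← fr.e_act x.2 w]
  have h1 := congrArg (fun β : GW => (β : Equiv.Perm W) w) hx
  exact congrArg e h1.symm

theorem irr (fr : Frame z V e σ g h) (U : Subgroup G) (hU : U ≤ V)
    (hn : ∀ g ∈ normalizer (V : Set G), ∀ u ∈ U, g * u * g⁻¹ ∈ U) : U = ⊥ ∨ U = V := by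
  by_cases hb : U = ⊥
  · exact Or.inl hb
  right
  obtain ⟨u, hu1⟩ := (Subgroup.ne_bot_iff_exists_ne_one).1 hb
  obtain ⟨w, hw⟩ := (fr.mem _).1 (hU u.2)
  have hinv : ∀ {α : Equiv.Perm W}, α ∈ GW → ∀ v, e v ∈ U → e (α v) ∈ U := by
    intro α hα v hv
    obtain ⟨x, hx, he⟩ := exists_act fr hα
    rw [he]
    exact hn x hx _ hv
  have hall := all_of (P := fun v => e v ∈ U) (fun u v hu hv => by rw [fr.add]; exact mul_mem hu hv)
    (by rw [fr.zero]; exact one_mem _) (hinv aa_mem) (hinv bb_mem) (hinv sc_mem) (w := w) (by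
      rintro rfl
      rw [fr.zero] at hw
      exact hu1 (Subtype.ext hw.symm)) (by rw [hw]; exact u.2)
  apply le_antisymm hU
  intro v hv
  obtain ⟨w', rfl⟩ := (fr.mem v).1 hv
  exact hall w'

theorem card_V (fr : Frame z V e σ g h) : Nat.card V = 64 := by
  have h1 : Function.Bijective (fun w : W => (⟨e w, fr.e_mem w⟩ : V)) := by
    refine ⟨fun a b hab => fr.inj (congrArg Subtype.val hab), fun v => ?_⟩
    obtain ⟨w, hw⟩ := (fr.mem v).1 v.2
    exact ⟨w, Subtype.ext hw⟩
  rw [← Nat.card_congr (Equiv.ofBijective _ h1)]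
  simp [Nat.card_prod, Nat.card_zmod]

theorem card_GW (hs : Function.Surjective pi) : Nat.card GW = 2160 := by
  have h1 := card_mul_index pi.ker
  rw [card_ker, index_ker, MonoidHom.range_eq_top.2 hs, card_top, Nat.card_perm, Nat.card_fin] at h1
  rw [← h1]; rfl

theorem card_ker_psi (fr : Frame z V e σ g h) : Nat.card fr.psi.ker = 64 := by
  have h1 : fr.psi.ker = V.subgroupOf (normalizer (V : Set G)) := by
    ext x
    rw [fr.mem_ker, mem_subgroupOf]
  rw [h1, card_subgroupOf_of_le le_normalizer, card_V fr]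

theorem card_norm (fr : Frame z V e σ g h) : Nat.card (normalizer (V : Set G)) = 138240 := by
  have h1 := card_mul_index fr.psi.ker
  rw [card_ker_psi fr, index_ker, MonoidHom.range_eq_top.2 fr.psi_surj, card_top, card_GW fr.pi_surj] at h1
  rw [← h1]

theorem nrm [Finite G] (fr : Frame z V e σ g h) (M : Subgroup G) (hVM : V ≤ M) (hM : M ≤ normalizer (V : Set G))
    (hn : ∀ g ∈ normalizer (V : Set G), ∀ u ∈ M, g * u * g⁻¹ ∈ M) : Nat.card M ∈ J := by
  have hMn : (M.subgroupOf (normalizer (V : Set G))).Normal := by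
    refine ⟨fun n hn' g => ?_⟩
    rw [mem_subgroupOf] at hn' ⊢
    exact hn _ g.2 _ hn'
  have h1 := card_normal fr.pi_surj _ (hMn.map fr.psi fr.psi_surj)
  have h2 := card_map_ker fr.psi (M.subgroupOf (normalizer (V : Set G)))
  have h3 : M.subgroupOf (normalizer (V : Set G)) ⊓ fr.psi.ker = fr.psi.ker := by
    apply inf_eq_right.2
    intro x hx
    exact mem_subgroupOf.2 (hVM (fr.mem_ker.1 hx))
  rw [h3, card_ker_psi fr, card_subgroupOf_of_le hM] at h2
  rw [h2, mul_comm]
  exact h1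

/-- **the data of a frame** -/
theorem dat [Finite G] (fr : Frame z V e σ g h) {T : Sylow 2 G} (hVT : V ≤ (T : Subgroup G))
    (hw : ∀ g : G, (∀ v ∈ V, g * v * g⁻¹ ∈ (T : Subgroup G)) → g ∈ normalizer (V : Set G)) : Dat V T J where
  le := hVT
  cen := fr.cen
  weak := hw
  irr := irr fr
  nrm := nrm fr

end

end Cfsg.Agent.H70.HeFrameDat
end

-- part: H70/HeCoat
section
/-!
# Two classes of maximal subgroups `2^6:3.S6` of the Held group (helper70)
-/

set_option autoImplicit false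

namespace Cfsg.Agent.H70.HeCoat

open Subgroup Cfsg Cfsg.Agent.SporadicRecognition.HeldModel Cfsg.Agent.H6.HeOver Cfsg.Agent.KFacts.He.Hyp
  Cfsg.Agent.H6.HexW Cfsg.Agent.H70.HeMax Cfsg.Agent.H70.HeFrameDat Cfsg.Agent.H940 Cfsg.Agent.H940.Eng
  Cfsg.Agent.KFacts.TwoSix.U Cfsg.Agent.KFacts.TwoSix.Facts

abbrev G : Type := Cfsg.Spor.He

theorem cardG : Nat.card G = Eng.D.n_he := KFacts.He.Classes.card_he
theorem finG : Finite G := Nat.finite_of_card_ne_zero (by rw [cardG]; decide +kernel)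

theorem exists_T : ∃ T : Sylow 2 G, (T : Subgroup G) = img iota T0 := by
  have := finG
  exact exists_sylow hyp

/-- the two subgroups of order 64 -/
noncomputable abbrev A1 : Subgroup G := img iota V1
noncomputable abbrev A2 : Subgroup G := img iota V2

theorem dat1 {T : Sylow 2 G} (hT : (T : Subgroup G) = img iota T0) : Dat A1 T J := by
  have := finG
  exact dat H6.HeFrames.frame1 (by rw [hT]; exact img_mono V1_le_T0) (norm_of_weak hyp hT)

theorem dat2 {T : Sylow 2 G} (hT : (T : Subgroup G) = img iota T0) : Dat A2 T J := by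
  have := finG
  refine dat H6.HeFrames.frame2 (by rw [hT]; exact img_mono V2_le_T0) ?_
  have h1 := norm_of_weak hyp.tau (T := T) (by rw [hT, img_tau_T0])
  rw [img_tau_V1] at h1
  exact h1

theorem card1 : Nat.card (normalizer (A1 : Set G)) = 138240 := card_norm H6.HeFrames.frame1
theorem card2 : Nat.card (normalizer (A2 : Set G)) = 138240 := card_norm H6.HeFrames.frame2

theorem over_le {T : Sylow 2 G} (hT : (T : Subgroup G) = img iota T0) (H : Subgroup G) (hTH : (T : Subgroup G) ≤ H)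
    (hH : Cfsg.pCore 2 H ≠ ⊥) : Nat.card H ≤ 138240 := by
  have := finG
  rcases H6.HeWords.ctx.over hT hTH hH with h | h | h
  · refine (Nat.le_of_dvd Nat.card_pos (card_dvd_of_le h)).trans ?_
    rw [KFacts.He.Cent.card_cent]
    norm_num
  · exact (Nat.le_of_dvd Nat.card_pos (card_dvd_of_le h)).trans card1.le
  · exact (Nat.le_of_dvd Nat.card_pos (card_dvd_of_le h)).trans card2.le

/-- **the first class of maximal subgroups `2^6:3.S6`** -/
theorem coatom1 (B : Base) : IsCoatom (normalizer (A1 : Set G)) := by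
  have := finG
  obtain ⟨T, hT⟩ := exists_T
  exact coatom_of B cardG (dat1 hT) card1 (over_le hT)

/-- **the second class of maximal subgroups `2^6:3.S6`** -/
theorem coatom2 (B : Base) : IsCoatom (normalizer (A2 : Set G)) := by
  have := finG
  obtain ⟨T, hT⟩ := exists_T
  exact coatom_of B cardG (dat2 hT) card2 (over_le hT)

theorem x02_V1 : x 0 2 ∈ V1 := by rw [mem_V1_iff, H6.HeElt.cdx]; decide +kernel

theorem A_ne : A1 ≠ A2 := by
  intro h
  have h2 : iota ⟨x 0 2, V1_le_CC x02_V1⟩ ∈ A1 := (ι_mem_img hyp).2 x02_V1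
  rw [h, ι_mem_img hyp, mem_V2_iff, H6.HeElt.cdx] at h2
  exact absurd h2 (by decide +kernel)

/-- the two classes are different -/
theorem not_conj (g : G) : ∃ x ∈ normalizer (A2 : Set G), g * x * g⁻¹ ∉ normalizer (A1 : Set G) := by
  have := finG
  obtain ⟨T, hT⟩ := exists_T
  by_contra hcon
  push Not at hcon
  have d1 := dat1 hT
  have d2 := dat2 hT
  have hX : (normalizer (A2 : Set G)).map (MulAut.conj g).toMonoidHom = normalizer (A1 : Set G) := by
    apply eq_of_le_of_card_ge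
    · rintro _ ⟨x, hx, rfl⟩
      exact hcon x hx
    · rw [card_map_of_injective (MulAut.conj g).injective, card1, card2]
  set W : Subgroup G := A2.map (MulAut.conj g).toMonoidHom with hW
  have hWc : Nat.card W = 64 := by
    rw [hW, card_map_of_injective (MulAut.conj g).injective]
    exact card_V H6.HeFrames.frame2
  have hWn : ∀ x ∈ normalizer (A1 : Set G), ∀ w ∈ W, x * w * x⁻¹ ∈ W := by
    intro x hx w hw
    rw [← hX] at hx
    obtain ⟨y, hy, rfl⟩ := hx
    obtain ⟨v, hv, rfl⟩ := hw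
    refine ⟨y * v * y⁻¹, (mem_normalizer_iff.1 hy v).1 hv, ?_⟩
    show g * (y * v * y⁻¹) * g⁻¹ = (g * y * g⁻¹) * (g * v * g⁻¹) * (g * y * g⁻¹)⁻¹
    group
  have hWX : W ≤ normalizer (A1 : Set G) := by
    rw [← hX]
    exact map_mono le_normalizer
  have hWA : W = A1 := by
    rcases d1.irr (A1 ⊓ W) inf_le_left (fun x hx u hu =>
      mem_inf.2 ⟨(mem_normalizer_iff.1 hx u).1 (mem_inf.1 hu).1, hWn x hx u (mem_inf.1 hu).2⟩) with h | h
    · exfalso
      have h1 : W ≤ A1 := by
        intro w hw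
        apply d1.cen
        intro v hv
        have h2 : w * v * w⁻¹ * v⁻¹ ∈ A1 ⊓ W := by
          refine mem_inf.2 ⟨mul_mem ((mem_normalizer_iff.1 (hWX hw) v).1 hv) (inv_mem hv), ?_⟩
          have h3 := hWn v (le_normalizer hv) w⁻¹ (inv_mem hw)
          have h4 := mul_mem hw h3
          have h5 : w * (v * w⁻¹ * v⁻¹) = w * v * w⁻¹ * v⁻¹ := by group
          rwa [h5] at h4
        rw [h, mem_bot, mul_inv_eq_one] at h2
        exact mul_inv_eq_iff_eq_mul.1 h2
      rw [inf_eq_right.2 h1] at h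
      rw [h, card_bot] at hWc
      exact absurd hWc (by norm_num)
    · symm
      apply eq_of_le_of_card_ge
      · exact inf_eq_left.1 h
      · rw [hWc, card_V H6.HeFrames.frame1]
  have h1 := d2.weak g fun v hv => by
    apply d1.le
    rw [← hWA]
    exact ⟨v, hv, rfl⟩
  have h2 : W = A2 := by
    apply eq_of_le_of_card_ge
    · rintro _ ⟨v, hv, rfl⟩
      exact (mem_normalizer_iff.1 h1 v).1 hv
    · rw [hWc, card_V H6.HeFrames.frame2]
  exact A_ne (hWA.symm.trans h2)

theorem apart12 (B : Base) : MaxCls.Apart (normalizer (A1 : Set G)) (normalizer (A2 : Set G)) :=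
  MaxCls.apart_of_coatom (coatom1 B) not_conj

end Cfsg.Agent.H70.HeCoat
end

private theorem dce_27c3447bb5c2 : _root_.True := by
  try have : _root_.True := by simp only [_root_.Cfsg.Agent.H940.Eng.D.l_he.eq_1]
  exact _root_.True.intro
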